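import Cfsg.Agent.H776.Co.Lin_m3
import Cfsg.Agent.LThreeCo1.SylCls
import Cfsg.Agent.LThreeCo1.Ev
import Cfsg.Agent.LThreeCo1.QEv
import Cfsg.Agent.FastGrp
import Cfsg.Agent.Prune
set_option linter.all false

-- part: H956/Co1P/Gen
section
prune_inst 0x7f00000000000000000000000000000000000000000000000000000000000000000000000000000000000000000000000000000000000000000000000000000000000000000000000000000000000000003fffffffffffffffffffffffffffbeffbdffffffff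
set_option linter.all false
open scoped Cfsg.Agent.FastGrp

/-!
Embeddings of the model `P` given by nine elements (helper956).
-/

set_option autoImplicit false
set_option linter.style.longLine false

namespace Cfsg.Agent.H956.Co1P

open Cfsg.Agent.LThreeCo1.AGrp Cfsg.Agent.H776.Co Cfsg.Agent.H776.Co.P
open Cfsg.Agent.H776.Co.Lin (tf tf_tf tf_zero)

variable {G : Type*} [Group G]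

/-- The root elements of `P`. -/
def r (i : Fin 9) (t : ZMod 3) : P :=
  match i with
  | 0 => ⟨t, 0, 0, 0, 0, 0, 0, 0, 0⟩
  | 1 => ⟨0, t, 0, 0, 0, 0, 0, 0, 0⟩
  | 2 => ⟨0, 0, t, 0, 0, 0, 0, 0, 0⟩
  | 3 => ⟨0, 0, 0, t, 0, 0, 0, 0, 0⟩
  | 4 => ⟨0, 0, 0, 0, t, 0, 0, 0, 0⟩
  | 5 => ⟨0, 0, 0, 0, 0, t, 0, 0, 0⟩
  | 6 => ⟨0, 0, 0, 0, 0, 0, t, 0, 0⟩
  | 7 => ⟨0, 0, 0, 0, 0, 0, 0, t, 0⟩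
  | 8 => ⟨0, 0, 0, 0, 0, 0, 0, 0, t⟩

theorem r_zero (i : Fin 9) : r i 0 = 1 := by fin_cases i <;> rfl

theorem r_two (i : Fin 9) : r i 2 = r i 1 * r i 1 := by (revert i; decide +kernel)

theorem r_mem {K : Subgroup P} {i : Fin 9} (t : ZMod 3) (h : t = 0 ∨ r i 1 ∈ K) : r i t ∈ K := by
  rcases h with rfl | h
  · rw [r_zero]; exact K.one_mem
  · fin_cases t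
    · show r i 0 ∈ K
      rw [r_zero]; exact K.one_mem
    · exact h
    · show r i 2 ∈ K
      rw [r_two]; exact K.mul_mem h h

theorem decomp (x : P) : x = r 3 x.m11 * r 4 x.m12 * r 5 x.m22 * r 6 x.m13 * r 7 x.m23 * r 8 x.m33 * r 2 x.c * r 1 x.b * r 0 x.a := by
  ext <;> simp [r]

/-- Membership from the generators. -/
theorem mem_of_gens {K : Subgroup P} {x : P} (h3 : r 3 1 ∈ K) (h4 : r 4 1 ∈ K) (h5 : r 5 1 ∈ K) (h6 : r 6 1 ∈ K)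
    (h7 : r 7 1 ∈ K) (h2 : r 2 1 ∈ K) (h8 : x.m33 = 0 ∨ r 8 1 ∈ K) (h1 : x.b = 0 ∨ r 1 1 ∈ K)
    (h0 : x.a = 0 ∨ r 0 1 ∈ K) : x ∈ K := by
  rw [decomp x]
  exact K.mul_mem (K.mul_mem (K.mul_mem (K.mul_mem (K.mul_mem (K.mul_mem (K.mul_mem (K.mul_mem (r_mem _ (Or.inr h3))
    (r_mem _ (Or.inr h4))) (r_mem _ (Or.inr h5))) (r_mem _ (Or.inr h6))) (r_mem _ (Or.inr h7))) (r_mem _ h8))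
    (r_mem _ (Or.inr h2))) (r_mem _ h1)) (r_mem _ h0)

/-- The nine elements. -/
structure Dat (a : Fin 6 → G) (x y z : G) : Prop where
  hyp : Hyp a
  x3 : x ^ 3 = 1
  y3 : y ^ 3 = 1
  z3 : z ^ 3 = 1
  xy : x * y = z * (y * x)
  xz : x * z = z * x
  yz : y * z = z * y
  cx : ∀ j, x * a j * x⁻¹ = Ph a (tf 1 0 0 (Pi.single j 1))
  cy : ∀ j, y * a j * y⁻¹ = Ph a (tf 0 1 0 (Pi.single j 1))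
  cz : ∀ j, z * a j * z⁻¹ = Ph a (tf 0 0 1 (Pi.single j 1))
  ne : a 0 ≠ 1

/-- the coordinates of the `A`-part -/
def vec (p : P) : V := ![p.m11, p.m12, p.m22, p.m13, p.m23, p.m33]

theorem vec_mul (p q : P) : vec (p * q) = vec p + tf p.a p.b p.c (vec q) := by
  funext i
  (revert i; simp only [vec, tf, _root_.Fin.forall_fin_succ, _root_.Cfsg.Agent.H776.Co.P.mul_m11, _root_.Cfsg.Agent.H776.Co.P.mul_m12, _root_.Cfsg.Agent.H776.Co.P.mul_m22, _root_.Cfsg.Agent.H776.Co.P.mul_m13, _root_.Cfsg.Agent.H776.Co.P.mul_m23, _root_.Cfsg.Agent.H776.Co.P.mul_m33, Fin.isValue, _root_.Matrix.cons_val_zero, _root_.Matrix.cons_val_one, _root_.Matrix.cons_val, _root_.Pi.add_apply, _root_.Matrix.cons_val_succ, _root_.Matrix.cons_val_fin_one,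 _root_.implies_true, _root_.and_self])

/-- the `T`-part -/
def tau (x y z : G) (a b c : ZMod 3) : G := z ^ c.val * (y ^ b.val * x ^ a.val)

/-- the map -/
def phi (a : Fin 6 → G) (x y z : G) (p : P) : G := Ph a (vec p) * tau x y z p.a p.b p.c

variable {a : Fin 6 → G} {x y z : G}

theorem lin_tf (s t u : ZMod 3) (v : V) : lin (fun j => tf s t u (Pi.single j 1)) v = tf s t u v := by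
  funext i
  (revert i; simp only [lin, tf, _root_.Fin.forall_fin_succ, Fin.isValue, _root_.Pi.single_eq_same, _root_.ne_eq, _root_.one_ne_zero, _root_.not_false_eq_true, _root_.Pi.single_eq_of_ne, _root_.MulZeroClass.mul_zero, _root_.add_zero, Fin.reduceEq, _root_.zero_ne_one, _root_.mul_one, _root_.zero_add, _root_.Matrix.cons_val_zero, _root_.Matrix.cons_val_succ, _root_.add_right_inj, _root_.Matrix.cons_val_fin_one, _root_.implies_true, _root_.and_true]) <;> (repeat' with_reducible apply And.intro) <;> ring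

theorem swap (hxy : x * y = z * (y * x)) (hxz : x * z = z * x) (hyz : y * z = z * y) (m n : ℕ) :
    x ^ m * y ^ n = z ^ (m * n) * (y ^ n * x ^ m) := by
  have cz1 : ∀ k l : ℕ, x ^ k * z ^ l = z ^ l * x ^ k := fun k l => (Commute.pow_pow (show Commute x z from hxz) k l).eq
  have cz2 : ∀ k l : ℕ, y ^ k * z ^ l = z ^ l * y ^ k := fun k l => (Commute.pow_pow (show Commute y z from hyz) k l).eq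
  have h1 : ∀ n : ℕ, x * y ^ n = z ^ n * (y ^ n * x) := by
    intro n
    induction n with
    | zero => simp
    | succ n ih =>
      calc x * y ^ (n + 1) = x * y ^ n * y := by rw [pow_succ, mul_assoc]
        _ = z ^ n * (y ^ n * (x * y)) := by rw [ih]; simp only [mul_assoc]
        _ = z ^ n * (y ^ n * z * (y * x)) := by rw [hxy]; simp only [mul_assoc]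
        _ = z ^ n * (z * y ^ n * (y * x)) := by rw [show y ^ n * z = z * y ^ n by simpa only [_root_.pow_one] using cz2 n 1]
        _ = z ^ (n + 1) * (y ^ (n + 1) * x) := by rw [pow_succ, pow_succ]; simp only [mul_assoc]
  induction m with
  | zero => simp
  | succ m ih =>
    calc x ^ (m + 1) * y ^ n = x * (x ^ m * y ^ n) := by rw [pow_succ', mul_assoc]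
      _ = x * z ^ (m * n) * (y ^ n * x ^ m) := by rw [ih]; simp only [mul_assoc]
      _ = z ^ (m * n) * (x * y ^ n * x ^ m) := by
          rw [show x * z ^ (m * n) = z ^ (m * n) * x by simpa only [_root_.pow_one] using cz1 1 (m * n)]; simp only [mul_assoc]
      _ = z ^ (m * n) * (z ^ n * (y ^ n * x) * x ^ m) := by rw [h1]
      _ = z ^ ((m + 1) * n) * (y ^ n * x ^ (m + 1)) := by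
          rw [show (m + 1) * n = m * n + n by ring, pow_add, pow_succ' x]; simp only [mul_assoc]

theorem pow_mod3 {g : G} (hg : g ^ 3 = 1) {m n : ℕ} (h : (m : ZMod 3) = n) : g ^ m = g ^ n :=
  Cfsg.Agent.LThreeCo1.Heis.pow_mod hg h

theorem Dat.tau_mul (D : Dat a x y z) (s t u s' t' u' : ZMod 3) :
    tau x y z s t u * tau x y z s' t' u' = tau x y z (s + s') (t + t') (u + u' + s * t') := by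
  have cz1 : ∀ k l : ℕ, x ^ k * z ^ l = z ^ l * x ^ k := fun k l => (Commute.pow_pow (show Commute x z from D.xz) k l).eq
  have cz2 : ∀ k l : ℕ, y ^ k * z ^ l = z ^ l * y ^ k := fun k l => (Commute.pow_pow (show Commute y z from D.yz) k l).eq
  unfold tau
  rw [pow_val_add D.x3 s s', pow_val_add D.y3 t t', pow_val_add D.z3 (u + u'), pow_val_add D.z3 u u']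
  have h : z ^ (s * t').val = z ^ (s.val * t'.val) := pow_mod3 D.z3 (by
    rw [ZMod.natCast_zmod_val, Nat.cast_mul, ZMod.natCast_zmod_val, ZMod.natCast_zmod_val])
  rw [h]
  calc z ^ u.val * (y ^ t.val * x ^ s.val) * (z ^ u'.val * (y ^ t'.val * x ^ s'.val))
      = z ^ u.val * (y ^ t.val * (x ^ s.val * z ^ u'.val) * (y ^ t'.val * x ^ s'.val)) := by simp only [mul_assoc]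
    _ = z ^ u.val * (y ^ t.val * z ^ u'.val * (x ^ s.val * y ^ t'.val) * x ^ s'.val) := by
        rw [cz1]; simp only [mul_assoc]
    _ = z ^ u.val * (z ^ u'.val * y ^ t.val * (z ^ (s.val * t'.val) * (y ^ t'.val * x ^ s.val)) * x ^ s'.val) := by
        rw [cz2, swap D.xy D.xz D.yz]
    _ = z ^ u.val * (z ^ u'.val * (y ^ t.val * z ^ (s.val * t'.val)) * (y ^ t'.val * x ^ s.val) * x ^ s'.val) := by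
        simp only [mul_assoc]
    _ = _ := by rw [cz2]; simp only [mul_assoc]

theorem conj_pow_tf {g : G} {s t u : ZMod 3} (h : ∀ v, g * Ph a v * g⁻¹ = Ph a (tf s t u v))
    (f : ℕ → V → V) (h0 : ∀ v, f 0 v = v) (h1 : ∀ n v, tf s t u (f n v) = f (n + 1) v) (n : ℕ) (v : V) :
    g ^ n * Ph a v * (g ^ n)⁻¹ = Ph a (f n v) := by
  induction n generalizing v with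
  | zero => simp [h0]
  | succ n ih =>
    have e : g ^ (n + 1) * Ph a v * (g ^ (n + 1))⁻¹ = g * (g ^ n * Ph a v * (g ^ n)⁻¹) * g⁻¹ := by
      rw [pow_succ']; group
    rw [e, ih, h, h1]

theorem Dat.cX (D : Dat a x y z) (v : V) (n : ℕ) : x ^ n * Ph a v * (x ^ n)⁻¹ = Ph a (tf (n : ZMod 3) 0 0 v) := by
  refine conj_pow_tf (s := 1) (t := 0) (u := 0) (fun v => ?_) (fun n v => tf (n : ZMod 3) 0 0 v) (fun v => ?_)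
    (fun n v => ?_) n v
  · rw [D.hyp.conj D.cx, lin_tf]
  · simp only [Nat.cast_zero, tf_zero]
  · show tf 1 0 0 (tf (n : ZMod 3) 0 0 v) = tf ((n + 1 : ℕ) : ZMod 3) 0 0 v
    rw [tf_tf]
    congr 1 <;> push_cast <;> ring

theorem Dat.cY (D : Dat a x y z) (v : V) (n : ℕ) : y ^ n * Ph a v * (y ^ n)⁻¹ = Ph a (tf 0 (n : ZMod 3) 0 v) := by
  refine conj_pow_tf (s := 0) (t := 1) (u := 0) (fun v => ?_) (fun n v => tf 0 (n : ZMod 3) 0 v) (fun v => ?_)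
    (fun n v => ?_) n v
  · rw [D.hyp.conj D.cy, lin_tf]
  · simp only [Nat.cast_zero, tf_zero]
  · show tf 0 1 0 (tf 0 (n : ZMod 3) 0 v) = tf 0 ((n + 1 : ℕ) : ZMod 3) 0 v
    rw [tf_tf]
    congr 1 <;> push_cast <;> ring

theorem Dat.cZ (D : Dat a x y z) (v : V) (n : ℕ) : z ^ n * Ph a v * (z ^ n)⁻¹ = Ph a (tf 0 0 (n : ZMod 3) v) := by
  refine conj_pow_tf (s := 0) (t := 0) (u := 1) (fun v => ?_) (fun n v => tf 0 0 (n : ZMod 3) v) (fun v => ?_)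
    (fun n v => ?_) n v
  · rw [D.hyp.conj D.cz, lin_tf]
  · simp only [Nat.cast_zero, tf_zero]
  · show tf 0 0 1 (tf 0 0 (n : ZMod 3) v) = tf 0 0 ((n + 1 : ℕ) : ZMod 3) v
    rw [tf_tf]
    congr 1 <;> push_cast <;> ring

theorem Dat.cT (D : Dat a x y z) (s t u : ZMod 3) (v : V) :
    tau x y z s t u * Ph a v * (tau x y z s t u)⁻¹ = Ph a (tf s t u v) := by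
  have e : tau x y z s t u * Ph a v * (tau x y z s t u)⁻¹ =
      z ^ u.val * (y ^ t.val * (x ^ s.val * Ph a v * (x ^ s.val)⁻¹) * (y ^ t.val)⁻¹) * (z ^ u.val)⁻¹ := by
    unfold tau; group
  rw [e, D.cX, D.cY, D.cZ, tf_tf, tf_tf]
  congr 1
  simp only [ZMod.natCast_zmod_val]
  congr 1 <;> ring

theorem Dat.phi_mul (D : Dat a x y z) (p q : P) : phi a x y z (p * q) = phi a x y z p * phi a x y z q := by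
  have h := D.cT p.a p.b p.c (vec q)
  rw [mul_inv_eq_iff_eq_mul] at h
  unfold phi
  rw [vec_mul, D.hyp.add]
  calc Ph a (vec p) * Ph a (tf p.a p.b p.c (vec q)) * tau x y z (p * q).a (p * q).b (p * q).c
      = Ph a (vec p) * (Ph a (tf p.a p.b p.c (vec q)) * (tau x y z p.a p.b p.c * tau x y z q.a q.b q.c)) := by
        rw [D.tau_mul]; simp only [mul_assoc, mul_a, mul_b, mul_c]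
    _ = Ph a (vec p) * ((Ph a (tf p.a p.b p.c (vec q)) * tau x y z p.a p.b p.c) * tau x y z q.a q.b q.c) := by
        simp only [mul_assoc]
    _ = _ := by rw [← h]; simp only [mul_assoc]

/-- the homomorphism -/
def Dat.hom (D : Dat a x y z) : P →* G := MonoidHom.mk' (phi a x y z) D.phi_mul

@[simp] theorem Dat.hom_apply (D : Dat a x y z) (p : P) : D.hom p = phi a x y z p := rfl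

theorem Dat.key (D : Dat a x y z) {s : ZMod 3} (h : Ph a ![s, 0, 0, 0, 0, 0] = 1) : s = 0 := by
  have h3 := D.hyp.cube 0
  have h1 : a 0 ^ s.val = 1 := by simpa [Ph] using h
  fin_cases s
  · rfl
  · exfalso
    have h2 : a 0 ^ 1 = 1 := h1
    rw [pow_one] at h2
    exact D.ne h2
  · exfalso
    have h2 : a 0 ^ 2 = 1 := h1
    rw [pow_succ, h2, one_mul] at h3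
    exact D.ne h3

theorem two_mul_zero : ∀ s : ZMod 3, 2 * s = 0 → s = 0 := by decide

theorem Dat.inj (D : Dat a x y z) {v : V} (h : Ph a v = 1) : v = 0 := by
  have ht : ∀ s t u : ZMod 3, ∀ w : V, Ph a w = 1 → Ph a (tf s t u w) = 1 := by
    intro s t u w hw
    rw [← D.cT, hw]; group
  have hadd : ∀ u w : V, Ph a u = 1 → Ph a w = 1 → Ph a (u + w) = 1 := by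
    intro u w hu hw
    rw [D.hyp.add, hu, hw, one_mul]
  have hneg : ∀ u w : V, Ph a u = 1 → Ph a w = 1 → Ph a (u - w) = 1 := by
    intro u w hu hw
    rw [sub_eq_add_neg, D.hyp.add, D.hyp.neg, hu, hw, inv_one, one_mul]
  have h3 : (3 : ZMod 3) = 0 := by decide
  have e5 : v 5 = 0 := by
    have h1 := hadd _ _ (hadd _ _ h (ht 0 0 1 v h)) (ht 0 0 2 v h)
    have h2 : v + tf 0 0 1 v + tf 0 0 2 v = ![2 * v 5, 0, 0, 0, 0, 0] := by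
      funext i
      simp only [Pi.add_apply]
      fin_cases i
      · simp [tf]; linear_combination (v 0 + 2 * v 3 + v 5) * h3
      · simp only [tf, _root_.Fin.mk_one, _root_.Fin.isValue, _root_.MulZeroClass.mul_zero, _root_.MulZeroClass.zero_mul, _root_.add_zero, _root_.mul_one, _root_.ne_eq, _root_.OfNat.ofNat_ne_zero, _root_.not_false_eq_true, _root_.zero_pow, _root_.one_pow, _root_.one_mul, _root_.Matrix.cons_val_one, _root_.Matrix.cons_val_zero, _root_.Nat.succ_eq_add_one, _root_.Nat.reduceAdd]; linear_combination (v 1 + v 4) * h3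
      · simp only [tf, _root_.Fin.reduceFinMk, _root_.Fin.isValue, _root_.MulZeroClass.mul_zero, _root_.MulZeroClass.zero_mul, _root_.add_zero, _root_.mul_one, _root_.ne_eq, _root_.OfNat.ofNat_ne_zero, _root_.not_false_eq_true, _root_.zero_pow, _root_.one_pow, _root_.one_mul, _root_.Matrix.cons_val, _root_.Nat.succ_eq_add_one, _root_.Nat.reduceAdd]; linear_combination (v 2) * h3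
      · simp only [tf, _root_.Fin.reduceFinMk, _root_.Fin.isValue, _root_.MulZeroClass.mul_zero, _root_.MulZeroClass.zero_mul, _root_.add_zero, _root_.mul_one, _root_.ne_eq, _root_.OfNat.ofNat_ne_zero, _root_.not_false_eq_true, _root_.zero_pow, _root_.one_pow, _root_.one_mul, _root_.Matrix.cons_val, _root_.Nat.succ_eq_add_one, _root_.Nat.reduceAdd]; linear_combination (v 3 + v 5) * h3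
      · simp only [tf, _root_.Fin.reduceFinMk, _root_.Fin.isValue, _root_.MulZeroClass.mul_zero, _root_.MulZeroClass.zero_mul, _root_.add_zero, _root_.mul_one, _root_.ne_eq, _root_.OfNat.ofNat_ne_zero, _root_.not_false_eq_true, _root_.zero_pow, _root_.one_pow, _root_.one_mul, _root_.Matrix.cons_val, _root_.Nat.succ_eq_add_one, _root_.Nat.reduceAdd]; linear_combination (v 4) * h3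
      · simp only [tf, _root_.Fin.reduceFinMk, _root_.Fin.isValue, _root_.MulZeroClass.mul_zero, _root_.MulZeroClass.zero_mul, _root_.add_zero, _root_.mul_one, _root_.ne_eq, _root_.OfNat.ofNat_ne_zero, _root_.not_false_eq_true, _root_.zero_pow, _root_.one_pow, _root_.one_mul, _root_.Matrix.cons_val, _root_.Nat.succ_eq_add_one, _root_.Nat.reduceAdd]; linear_combination (v 5) * h3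
    rw [h2] at h1
    exact two_mul_zero _ (D.key h1)
  have hw : tf 0 0 1 v - v = ![2 * v 3, v 4, 0, 0, 0, 0] := by
    funext i
    simp only [Pi.sub_apply]
    (revert i; simp only [tf, e5, _root_.Fin.forall_fin_succ, Fin.isValue, _root_.MulZeroClass.mul_zero, _root_.MulZeroClass.zero_mul, _root_.add_zero, _root_.mul_one, _root_.ne_eq, _root_.OfNat.ofNat_ne_zero, _root_.not_false_eq_true, _root_.zero_pow, _root_.one_pow, _root_.one_mul, _root_.Nat.succ_eq_add_one, Nat.reduceAdd, _root_.Matrix.cons_val_zero, _root_.add_sub_cancel_left, _root_.Matrix.cons_val_succ, _root_.Fin.succ_zero_eq_one, _root_.Fin.succ_one_eq_two, _root_.sub_self, Fin.reduceSucc, _root_.Matrix.cons_val_fin_one, _root_.zero_sub, _root_.neg_eq_zero,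 _root_.IsEmpty.forall_iff, _root_.and_self])
  have h1 := hneg _ _ (ht 0 0 1 v h) h
  rw [hw] at h1
  have e4 : v 4 = 0 := by
    have h2 := hneg _ _ (ht 1 0 0 _ h1) h1
    have h5 : tf 1 0 0 ![2 * v 3, v 4, 0, 0, 0, 0] - ![2 * v 3, v 4, 0, 0, 0, 0] = ![2 * v 4, 0, 0, 0, 0, 0] := by
      funext i
      simp only [Pi.sub_apply]
      (revert i; simp only [tf, _root_.Fin.forall_fin_succ, Fin.isValue, _root_.Matrix.cons_val_zero, _root_.mul_one, _root_.Matrix.cons_val_one, _root_.MulZeroClass.mul_zero, _root_.Matrix.cons_val, _root_.add_zero, _root_.one_pow, _root_.ne_eq, _root_.OfNat.ofNat_ne_zero, _root_.not_false_eq_true, _root_.zero_pow, _root_.Nat.succ_eq_add_one, Nat.reduceAdd, _root_.add_sub_cancel_left,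 _root_.Matrix.cons_val_succ, _root_.sub_self, _root_.Matrix.cons_val_fin_one, _root_.implies_true, _root_.and_self])
    rw [h5] at h2
    exact two_mul_zero _ (D.key h2)
  have e3 : v 3 = 0 := by
    rw [e4] at h1
    exact two_mul_zero _ (D.key h1)
  have hw2 : tf 1 0 0 v - v = ![2 * v 1 + v 2, v 2, 0, 0, 0, 0] := by
    funext i
    simp only [Pi.sub_apply]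
    (revert i; simp only [tf, e5, e4, e3, _root_.Fin.forall_fin_succ, Fin.isValue, _root_.mul_one, _root_.MulZeroClass.mul_zero, _root_.add_zero, _root_.one_pow, _root_.one_mul, _root_.ne_eq, _root_.OfNat.ofNat_ne_zero, _root_.not_false_eq_true, _root_.zero_pow, _root_.Nat.succ_eq_add_one, Nat.reduceAdd, _root_.Matrix.cons_val_zero, _root_.Matrix.cons_val_succ, _root_.Fin.succ_zero_eq_one, _root_.add_sub_cancel_left, _root_.Fin.succ_one_eq_two, _root_.sub_self, _root_.sub_eq_self, Fin.reduceSucc, _root_.IsEmpty.forall_iff, _root_.and_self, _root_.and_true]) <;> (repeat' with_reducible apply And.intro) <;> ring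
  have h6 := hneg _ _ (ht 1 0 0 v h) h
  rw [hw2] at h6
  have e2 : v 2 = 0 := by
    have h2 := hneg _ _ (ht 1 0 0 _ h6) h6
    have h5 : tf 1 0 0 ![2 * v 1 + v 2, v 2, 0, 0, 0, 0] - ![2 * v 1 + v 2, v 2, 0, 0, 0, 0] = ![2 * v 2, 0, 0, 0, 0, 0] := by
      funext i
      simp only [Pi.sub_apply]
      (revert i; simp only [tf, _root_.Fin.forall_fin_succ, Fin.isValue, _root_.Matrix.cons_val_zero, _root_.mul_one, _root_.Matrix.cons_val_one, _root_.MulZeroClass.mul_zero, _root_.Matrix.cons_val, _root_.add_zero, _root_.one_pow, _root_.ne_eq, _root_.OfNat.ofNat_ne_zero, _root_.not_false_eq_true, _root_.zero_pow, _root_.Nat.succ_eq_add_one, Nat.reduceAdd, _root_.add_sub_cancel_left, _root_.Matrix.cons_val_succ,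 _root_.sub_self, _root_.Matrix.cons_val_fin_one, _root_.implies_true, _root_.and_self])
    rw [h5] at h2
    exact two_mul_zero _ (D.key h2)
  have e1 : v 1 = 0 := by
    rw [e2, add_zero] at h6
    exact two_mul_zero _ (D.key h6)
  have h5 : v = ![v 0, 0, 0, 0, 0, 0] := by
    funext i
    (revert i; simp only [e1, e2, e3, e4, e5, _root_.Fin.forall_fin_succ, _root_.Nat.succ_eq_add_one, Nat.reduceAdd, Fin.isValue, _root_.Matrix.cons_val_zero, _root_.Matrix.cons_val_succ, _root_.Fin.succ_zero_eq_one, _root_.Fin.succ_one_eq_two, Fin.reduceSucc, _root_.Matrix.cons_val_fin_one, _root_.IsEmpty.forall_iff, _root_.and_self])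
  rw [h5] at h
  have h7 := D.key h
  rw [h5, h7]
  funext i
  fin_cases i <;> rfl

theorem Dat.ph_inj (D : Dat a x y z) {v w : V} (h : Ph a v = Ph a w) : v = w := by
  have h1 : v - w = 0 := D.inj (by rw [sub_eq_add_neg, D.hyp.add, D.hyp.neg, h, mul_inv_cancel])
  exact sub_eq_zero.1 h1

theorem Dat.injective (D : Dat a x y z) : Function.Injective D.hom := by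
  rw [injective_iff_map_eq_one]
  intro p hp
  rw [D.hom_apply] at hp
  have h1 : ∀ v, tf p.a p.b p.c v = v := by
    intro v
    apply D.ph_inj
    have h2 : tau x y z p.a p.b p.c = (Ph a (vec p))⁻¹ := by
      unfold phi at hp
      exact eq_inv_of_mul_eq_one_right hp
    rw [← D.cT, h2, inv_inv, mul_assoc, D.hyp.ph_comm v, inv_mul_cancel_left]
  have h2 := h1 (Pi.single 4 1)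
  have ha : p.a = 0 := by simpa [tf] using congrFun h2 3
  have hb : p.b = 0 := by
    have := congrFun h2 2
    have h4 : ∀ s : ZMod 3, 2 * s = 0 → s = 0 := by decide
    exact h4 _ (by simpa only [tf, _root_.mul_eq_zero, _root_.Fin.isValue, _root_.ne_eq, _root_.Fin.reduceEq, _root_.not_false_eq_true, _root_.Pi.single_eq_of_ne, _root_.MulZeroClass.mul_zero, _root_.add_zero, _root_.Pi.single_eq_same, _root_.mul_one, _root_.zero_add, _root_.Matrix.cons_val] using this)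
  have hc : p.c = 0 := by simpa [tf, ha] using congrFun h2 1
  have h3 : vec p = 0 := by
    apply D.inj
    unfold phi at hp
    rw [ha, hb, hc] at hp
    simpa [tau] using hp
  ext
  · exact ha
  · exact hb
  · exact hc
  · exact congrFun h3 0
  · exact congrFun h3 1
  · exact congrFun h3 2
  · exact congrFun h3 3
  · exact congrFun h3 4
  · exact congrFun h3 5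

/-- The subgroup of elements of `R` where `φ ∘ f` is conjugation by `g`. -/
def agr (φ : P →* G) (R : Subgroup P) (f : P → P) (hf : ∀ x ∈ R, ∀ y ∈ R, f (x * y) = f x * f y) (g : G) : Subgroup P where
  carrier := {x | x ∈ R ∧ φ (f x) = g * φ x * g⁻¹}
  mul_mem' := by
    rintro x y ⟨hx, hx'⟩ ⟨hy, hy'⟩
    refine ⟨R.mul_mem hx hy, ?_⟩
    rw [hf x hx y hy, map_mul, map_mul, hx', hy']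
    group
  one_mem' := by
    refine ⟨R.one_mem, ?_⟩
    have h := hf 1 R.one_mem 1 R.one_mem
    rw [mul_one] at h
    rw [left_eq_mul.1 h, map_one]
    group
  inv_mem' := by
    rintro x ⟨hx, hx'⟩
    refine ⟨R.inv_mem hx, ?_⟩
    have h1 := hf 1 R.one_mem 1 R.one_mem
    rw [mul_one] at h1
    have h2 := hf x hx x⁻¹ (R.inv_mem hx)
    rw [mul_inv_cancel, left_eq_mul.1 h1] at h2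
    rw [← inv_eq_of_mul_eq_one_right h2.symm, map_inv, hx', map_inv]
    group

theorem agree {φ : P →* G} {R : Subgroup P} {f : P → P} (hf : ∀ x ∈ R, ∀ y ∈ R, f (x * y) = f x * f y) (g : G)
    (hg : ∀ i, r i 1 ∈ R → φ (f (r i 1)) = g * φ (r i 1) * g⁻¹)
    (h3 : r 3 1 ∈ R) (h4 : r 4 1 ∈ R) (h5 : r 5 1 ∈ R) (h6 : r 6 1 ∈ R) (h7 : r 7 1 ∈ R) (h2 : r 2 1 ∈ R)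
    {x : P} (h8 : x.m33 = 0 ∨ r 8 1 ∈ R) (h1 : x.b = 0 ∨ r 1 1 ∈ R) (h0 : x.a = 0 ∨ r 0 1 ∈ R) :
    φ (f x) = g * φ x * g⁻¹ := by
  have : x ∈ agr φ R f hf g :=
    mem_of_gens ⟨h3, hg 3 h3⟩ ⟨h4, hg 4 h4⟩ ⟨h5, hg 5 h5⟩ ⟨h6, hg 6 h6⟩ ⟨h7, hg 7 h7⟩ ⟨h2, hg 2 h2⟩
      (h8.imp_right fun h => ⟨h, hg 8 h⟩) (h1.imp_right fun h => ⟨h, hg 1 h⟩) (h0.imp_right fun h => ⟨h, hg 0 h⟩)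
  exact this.2

end Cfsg.Agent.H956.Co1P

private theorem dce_b14a0a235644 : _root_.True := by
  try have : _root_.True := by simp only [_root_.Cfsg.Agent.H956.Co1P.r.eq_4]
  try have : _root_.True := by simp only [_root_.Cfsg.Agent.H956.Co1P.r.eq_8]
  try have : _root_.True := by simp only [_root_.Cfsg.Agent.H956.Co1P.r.eq_2]
  try have : _root_.True := by simp only [_root_.Cfsg.Agent.H956.Co1P.tau.eq_1]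
  try have : _root_.True := by simp only [_root_.Cfsg.Agent.H956.Co1P.r.eq_3]
  try have : _root_.True := by simp only [_root_.Cfsg.Agent.H956.Co1P.r.eq_6]
  try have : _root_.True := by simp only [_root_.Cfsg.Agent.H956.Co1P.r.eq_5]
  try have : _root_.True := by simp only [_root_.Cfsg.Agent.H956.Co1P.r.eq_9]
  try have : _root_.True := by simp only [_root_.Cfsg.Agent.H956.Co1P.r.eq_7]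
  try have : _root_.True := by simp only [_root_.Cfsg.Agent.H956.Co1P.r.eq_1]
  try have : _root_.True := by simp only [_root_.Cfsg.Agent.LThreeCo1.AGrp.Ph.eq_1]
  try have : _root_.True := by simp only [_root_.Cfsg.Agent.LThreeCo1.AGrp.lin.eq_1]
  try have : _root_.True := by simp only [_root_.Cfsg.Agent.H956.Co1P.vec.eq_1]
  exact _root_.True.intro
end

-- part: H956/Co1P/Dat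
section
set_option linter.all false
open scoped Cfsg.Agent.FastGrp
private noncomputable def lq26cb34ddca {T : Sort _} (f :
    type_of% (@_root_.List.cons.{0}) →
    type_of% (@_root_.List.nil.{0}) → T) : T :=
  f (@_root_.List.cons.{0}) (@_root_.List.nil.{0})

-- part: H956/Co1P/MatA
section
/-!
# Explicit elements of `Co0` (helper956; generated)
-/

set_option autoImplicit false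
set_option maxRecDepth 20000

namespace Cfsg.Agent.H956.Co1P

open Cfsg.Agent.LThreeCo1.Ev Cfsg.Agent.SporadicStructure.Co0Matrix Cfsg.Agent.CoOneType.CoEval

/-- matrix -/
def N1 : List (List ℤ) := (beta% delta% lq26cb34ddca fun a b =>
 (a (a 2<|a 0<|a (-2)<|a 0<|a 0<|a 2<|a 0<|a 2<|a 0<|a (-2)<|a 0<|a 0<|a 6<|a 0<|a 0<|a 0<|a 0<|a 0<|a 0<|a 0<|a 0<|a 0<|a (-2)<|a 2<|b)<|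
 a (a 0<|a 2<|a 0<|a 2<|a 2<|a 0<|a 2<|a 0<|a (-2)<|a 0<|a 2<|a (-2)<|a 0<|a (-2)<|a (-2)<|a (-2)<|a (-2)<|a 2<|a 2<|a 2<|a (-2)<|a (-2)<|a 0<|a 0<|b)<|
 a (a 2<|a 0<|a (-2)<|a 0<|a 0<|a 2<|a 0<|a 2<|a 0<|a 6<|a 0<|a 0<|a (-2)<|a 0<|a 0<|a 0<|a 0<|a 0<|a 0<|a 0<|a 0<|a 0<|a (-2)<|a 2<|b)<|
 a (a 0<|a (-2)<|a 0<|a 2<|a (-2)<|a 0<|a (-2)<|a 0<|a 2<|a 0<|a 2<|a (-2)<|a 0<|a 2<|a (-2)<|a 2<|a 2<|a (-2)<|a 2<|a 2<|a (-2)<|a (-2)<|a 0<|a 0<|b)<|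
 a (a 0<|a (-2)<|a 0<|a (-2)<|a (-2)<|a 0<|a (-2)<|a 0<|a (-2)<|a 0<|a (-2)<|a 2<|a 0<|a (-2)<|a 2<|a (-2)<|a (-2)<|a (-2)<|a 2<|a 2<|a (-2)<|a (-2)<|a 0<|a 0<|b)<|
 a (a (-2)<|a 0<|a 2<|a 0<|a 0<|a (-2)<|a 0<|a 6<|a 0<|a 2<|a 0<|a 0<|a 2<|a 0<|a 0<|a 0<|a 0<|a 0<|a 0<|a 0<|a 0<|a 0<|a 2<|a (-2)<|b)<|
 a (a 0<|a (-2)<|a 0<|a 2<|a (-2)<|a 0<|a 2<|a 0<|a 2<|a 0<|a 2<|a 2<|a 0<|a (-2)<|a 2<|a 2<|a (-2)<|a 2<|a (-2)<|a (-2)<|a (-2)<|a (-2)<|a 0<|a 0<|b)<|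
 a (a (-2)<|a 0<|a 2<|a 0<|a 0<|a (-2)<|a 0<|a (-2)<|a 0<|a 2<|a 0<|a 0<|a 2<|a 0<|a 0<|a 0<|a 0<|a 0<|a 0<|a 0<|a 0<|a 0<|a 2<|a 6<|b)<|
 a (a 0<|a 2<|a 0<|a 2<|a (-2)<|a 0<|a 2<|a 0<|a (-2)<|a 0<|a (-2)<|a (-2)<|a 0<|a 2<|a 2<|a 2<|a (-2)<|a (-2)<|a 2<|a (-2)<|a (-2)<|a 2<|a 0<|a 0<|b)<|
 a (a 2<|a 0<|a (-2)<|a 0<|a 0<|a 2<|a 0<|a 2<|a 0<|a (-2)<|a 0<|a 0<|a (-2)<|a 0<|a 0<|a 0<|a 0<|a 0<|a 0<|a 0<|a 0<|a 0<|a 6<|a 2<|b)<|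
 a (a 0<|a 2<|a 0<|a (-2)<|a 2<|a 0<|a 2<|a 0<|a 2<|a 0<|a (-2)<|a 2<|a 0<|a 2<|a 2<|a 2<|a 2<|a 2<|a 2<|a 2<|a (-2)<|a (-2)<|a 0<|a 0<|b)<|
 a (a 0<|a 2<|a 0<|a 2<|a 2<|a 0<|a (-2)<|a 0<|a (-2)<|a 0<|a 2<|a 2<|a 0<|a 2<|a 2<|a (-2)<|a 2<|a (-2)<|a (-2)<|a (-2)<|a (-2)<|a (-2)<|a 0<|a 0<|b)<|
 a (a 6<|a 0<|a 2<|a 0<|a 0<|a (-2)<|a 0<|a (-2)<|a 0<|a 2<|a 0<|a 0<|a 2<|a 0<|a 0<|a 0<|a 0<|a 0<|a 0<|a 0<|a 0<|a 0<|a 2<|a (-2)<|b)<|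
 a (a 0<|a (-2)<|a 0<|a 2<|a 2<|a 0<|a 2<|a 0<|a (-2)<|a 0<|a (-2)<|a 2<|a 0<|a (-2)<|a (-2)<|a 2<|a 2<|a (-2)<|a 2<|a (-2)<|a 2<|a (-2)<|a 0<|a 0<|b)<|
 a (a 0<|a (-2)<|a 0<|a (-2)<|a (-2)<|a 0<|a 2<|a 0<|a (-2)<|a 0<|a (-2)<|a (-2)<|a 0<|a 2<|a (-2)<|a (-2)<|a 2<|a 2<|a (-2)<|a (-2)<|a (-2)<|a (-2)<|a 0<|a 0<|b)<|
 a (a 0<|a 2<|a 0<|a 2<|a (-2)<|a 0<|a 2<|a 0<|a 2<|a 0<|a (-2)<|a (-2)<|a 0<|a (-2)<|a 2<|a (-2)<|a 2<|a (-2)<|a (-2)<|a 2<|a 2<|a (-2)<|a 0<|a 0<|b)<|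
 a (a 0<|a (-2)<|a 0<|a 2<|a 2<|a 0<|a 2<|a 0<|a 2<|a 0<|a (-2)<|a 2<|a 0<|a 2<|a (-2)<|a (-2)<|a (-2)<|a (-2)<|a (-2)<|a 2<|a (-2)<|a 2<|a 0<|a 0<|b)<|
 a (a 0<|a 2<|a 0<|a (-2)<|a 2<|a 0<|a (-2)<|a 0<|a 2<|a 0<|a (-2)<|a (-2)<|a 0<|a (-2)<|a (-2)<|a 2<|a (-2)<|a (-2)<|a (-2)<|a (-2)<|a (-2)<|a (-2)<|a 0<|a 0<|b)<|
 a (a 0<|a 2<|a 0<|a 2<|a (-2)<|a 0<|a (-2)<|a 0<|a (-2)<|a 0<|a (-2)<|a 2<|a 0<|a (-2)<|a (-2)<|a 2<|a 2<|a 2<|a (-2)<|a 2<|a (-2)<|a 2<|a 0<|a 0<|b)<|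
 a (a 0<|a 2<|a 0<|a 2<|a (-2)<|a 0<|a (-2)<|a 0<|a 2<|a 0<|a (-2)<|a 2<|a 0<|a 2<|a (-2)<|a (-2)<|a (-2)<|a 2<|a 2<|a (-2)<|a 2<|a (-2)<|a 0<|a 0<|b)<|
 a (a 0<|a (-2)<|a 0<|a 2<|a 2<|a 0<|a (-2)<|a 0<|a 2<|a 0<|a (-2)<|a (-2)<|a 0<|a (-2)<|a 2<|a (-2)<|a 2<|a 2<|a 2<|a (-2)<|a (-2)<|a 2<|a 0<|a 0<|b)<|
 a (a 0<|a (-2)<|a 0<|a 2<|a 2<|a 0<|a (-2)<|a 0<|a (-2)<|a 0<|a (-2)<|a (-2)<|a 0<|a 2<|a 2<|a 2<|a (-2)<|a 2<|a (-2)<|a 2<|a 2<|a (-2)<|a 0<|a 0<|b)<|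
 a (a 2<|a 0<|a 6<|a 0<|a 0<|a 2<|a 0<|a 2<|a 0<|a (-2)<|a 0<|a 0<|a (-2)<|a 0<|a 0<|a 0<|a 0<|a 0<|a 0<|a 0<|a 0<|a 0<|a (-2)<|a 2<|b)<|
 a (a (-2)<|a 0<|a 2<|a 0<|a 0<|a 6<|a 0<|a (-2)<|a 0<|a 2<|a 0<|a 0<|a 2<|a 0<|a 0<|a 0<|a 0<|a 0<|a 0<|a 0<|a 0<|a 0<|a 2<|a (-2)<|b)<|b))

theorem okN1 : Ok N1 (tr N1) := Cfsg.Agent.Co0Q.ok_of (by decide +kernel)

/-- matrix -/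
def N2 : List (List ℤ) := (beta% delta% lq26cb34ddca fun a b =>
 (a (a 8<|a 0<|a 0<|a 0<|a 0<|a 0<|a 0<|a 0<|a 0<|a 0<|a 0<|a 0<|a 0<|a 0<|a 0<|a 0<|a 0<|a 0<|a 0<|a 0<|a 0<|a 0<|a 0<|a 0<|b)<|
 a (a 0<|a 8<|a 0<|a 0<|a 0<|a 0<|a 0<|a 0<|a 0<|a 0<|a 0<|a 0<|a 0<|a 0<|a 0<|a 0<|a 0<|a 0<|a 0<|a 0<|a 0<|a 0<|a 0<|a 0<|b)<|
 a (a 0<|a 0<|a 0<|a 0<|a 0<|a 0<|a 0<|a 0<|a 0<|a 8<|a 0<|a 0<|a 0<|a 0<|a 0<|a 0<|a 0<|a 0<|a 0<|a 0<|a 0<|a 0<|a 0<|a 0<|b)<|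
 a (a 0<|a 0<|a 0<|a 8<|a 0<|a 0<|a 0<|a 0<|a 0<|a 0<|a 0<|a 0<|a 0<|a 0<|a 0<|a 0<|a 0<|a 0<|a 0<|a 0<|a 0<|a 0<|a 0<|a 0<|b)<|
 a (a 0<|a 0<|a 0<|a 0<|a 0<|a 0<|a 0<|a 0<|a (-8)<|a 0<|a 0<|a 0<|a 0<|a 0<|a 0<|a 0<|a 0<|a 0<|a 0<|a 0<|a 0<|a 0<|a 0<|a 0<|b)<|
 a (a 0<|a 0<|a 0<|a 0<|a 0<|a 0<|a 0<|a 0<|a 0<|a 0<|a 0<|a 0<|a 0<|a 0<|a 0<|a 0<|a 0<|a 0<|a 0<|a 0<|a 0<|a 0<|a 0<|a 8<|b)<|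
 a (a 0<|a 0<|a 0<|a 0<|a 0<|a 0<|a 8<|a 0<|a 0<|a 0<|a 0<|a 0<|a 0<|a 0<|a 0<|a 0<|a 0<|a 0<|a 0<|a 0<|a 0<|a 0<|a 0<|a 0<|b)<|
 a (a 0<|a 0<|a 0<|a 0<|a 0<|a 8<|a 0<|a 0<|a 0<|a 0<|a 0<|a 0<|a 0<|a 0<|a 0<|a 0<|a 0<|a 0<|a 0<|a 0<|a 0<|a 0<|a 0<|a 0<|b)<|
 a (a 0<|a 0<|a 0<|a 0<|a 0<|a 0<|a 0<|a 0<|a 0<|a 0<|a 0<|a 0<|a 0<|a 0<|a 0<|a 8<|a 0<|a 0<|a 0<|a 0<|a 0<|a 0<|a 0<|a 0<|b)<|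
 a (a 0<|a 0<|a 0<|a 0<|a 0<|a 0<|a 0<|a 0<|a 0<|a 0<|a 0<|a 0<|a 0<|a 0<|a 0<|a 0<|a 0<|a 0<|a 0<|a 0<|a 0<|a 0<|a 8<|a 0<|b)<|
 a (a 0<|a 0<|a 0<|a 0<|a 0<|a 0<|a 0<|a 0<|a 0<|a 0<|a 0<|a 0<|a 0<|a 0<|a 0<|a 0<|a 0<|a 0<|a 0<|a 0<|a (-8)<|a 0<|a 0<|a 0<|b)<|
 a (a 0<|a 0<|a 0<|a 0<|a 0<|a 0<|a 0<|a 0<|a 0<|a 0<|a 0<|a 8<|a 0<|a 0<|a 0<|a 0<|a 0<|a 0<|a 0<|a 0<|a 0<|a 0<|a 0<|a 0<|b)<|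
 a (a 0<|a 0<|a 0<|a 0<|a 0<|a 0<|a 0<|a 0<|a 0<|a 0<|a 0<|a 0<|a 8<|a 0<|a 0<|a 0<|a 0<|a 0<|a 0<|a 0<|a 0<|a 0<|a 0<|a 0<|b)<|
 a (a 0<|a 0<|a 0<|a 0<|a 0<|a 0<|a 0<|a 0<|a 0<|a 0<|a 0<|a 0<|a 0<|a 0<|a 0<|a 0<|a 0<|a (-8)<|a 0<|a 0<|a 0<|a 0<|a 0<|a 0<|b)<|
 a (a 0<|a 0<|a 0<|a 0<|a 0<|a 0<|a 0<|a 0<|a 0<|a 0<|a 0<|a 0<|a 0<|a 0<|a 0<|a 0<|a 0<|a 0<|a (-8)<|a 0<|a 0<|a 0<|a 0<|a 0<|b)<|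
 a (a 0<|a 0<|a 0<|a 0<|a (-8)<|a 0<|a 0<|a 0<|a 0<|a 0<|a 0<|a 0<|a 0<|a 0<|a 0<|a 0<|a 0<|a 0<|a 0<|a 0<|a 0<|a 0<|a 0<|a 0<|b)<|
 a (a 0<|a 0<|a 0<|a 0<|a 0<|a 0<|a 0<|a 0<|a 0<|a 0<|a 0<|a 0<|a 0<|a 8<|a 0<|a 0<|a 0<|a 0<|a 0<|a 0<|a 0<|a 0<|a 0<|a 0<|b)<|
 a (a 0<|a 0<|a 0<|a 0<|a 0<|a 0<|a 0<|a 0<|a 0<|a 0<|a 0<|a 0<|a 0<|a 0<|a 0<|a 0<|a (-8)<|a 0<|a 0<|a 0<|a 0<|a 0<|a 0<|a 0<|b)<|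
 a (a 0<|a 0<|a 0<|a 0<|a 0<|a 0<|a 0<|a 0<|a 0<|a 0<|a 0<|a 0<|a 0<|a 0<|a 0<|a 0<|a 0<|a 0<|a 0<|a 8<|a 0<|a 0<|a 0<|a 0<|b)<|
 a (a 0<|a 0<|a 0<|a 0<|a 0<|a 0<|a 0<|a 0<|a 0<|a 0<|a 0<|a 0<|a 0<|a 0<|a (-8)<|a 0<|a 0<|a 0<|a 0<|a 0<|a 0<|a 0<|a 0<|a 0<|b)<|
 a (a 0<|a 0<|a 0<|a 0<|a 0<|a 0<|a 0<|a 0<|a 0<|a 0<|a 0<|a 0<|a 0<|a 0<|a 0<|a 0<|a 0<|a 0<|a 0<|a 0<|a 0<|a 8<|a 0<|a 0<|b)<|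
 a (a 0<|a 0<|a 0<|a 0<|a 0<|a 0<|a 0<|a 0<|a 0<|a 0<|a (-8)<|a 0<|a 0<|a 0<|a 0<|a 0<|a 0<|a 0<|a 0<|a 0<|a 0<|a 0<|a 0<|a 0<|b)<|
 a (a 0<|a 0<|a 8<|a 0<|a 0<|a 0<|a 0<|a 0<|a 0<|a 0<|a 0<|a 0<|a 0<|a 0<|a 0<|a 0<|a 0<|a 0<|a 0<|a 0<|a 0<|a 0<|a 0<|a 0<|b)<|
 a (a 0<|a 0<|a 0<|a 0<|a 0<|a 0<|a 0<|a 8<|a 0<|a 0<|a 0<|a 0<|a 0<|a 0<|a 0<|a 0<|a 0<|a 0<|a 0<|a 0<|a 0<|a 0<|a 0<|a 0<|b)<|b))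

theorem okN2 : Ok N2 (tr N2) := Cfsg.Agent.Co0Q.ok_of (by decide +kernel)

/-- matrix -/
def N3 : List (List ℤ) := (beta% delta% lq26cb34ddca fun a b =>
 (a (a 2<|a 0<|a (-2)<|a 0<|a 0<|a (-2)<|a 0<|a (-2)<|a 0<|a (-2)<|a 0<|a 0<|a (-6)<|a 0<|a 0<|a 0<|a 0<|a 0<|a 0<|a 0<|a 0<|a 0<|a (-2)<|a (-2)<|b)<|
 a (a 0<|a 2<|a 0<|a 2<|a (-2)<|a 0<|a 2<|a 0<|a 2<|a 0<|a (-2)<|a (-2)<|a 0<|a 2<|a 2<|a 2<|a 2<|a (-2)<|a (-2)<|a (-2)<|a 2<|a 2<|a 0<|a 0<|b)<|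
 a (a 2<|a 0<|a (-2)<|a 0<|a 0<|a (-2)<|a 0<|a (-2)<|a 0<|a 6<|a 0<|a 0<|a 2<|a 0<|a 0<|a 0<|a 0<|a 0<|a 0<|a 0<|a 0<|a 0<|a (-2)<|a (-2)<|b)<|
 a (a 0<|a (-2)<|a 0<|a 2<|a 2<|a 0<|a (-2)<|a 0<|a (-2)<|a 0<|a (-2)<|a (-2)<|a 0<|a (-2)<|a 2<|a (-2)<|a (-2)<|a 2<|a (-2)<|a (-2)<|a 2<|a 2<|a 0<|a 0<|b)<|
 a (a 0<|a 2<|a 0<|a 2<|a (-2)<|a 0<|a 2<|a 0<|a (-2)<|a 0<|a (-2)<|a (-2)<|a 0<|a (-2)<|a 2<|a (-2)<|a (-2)<|a (-2)<|a 2<|a 2<|a (-2)<|a (-2)<|a 0<|a 0<|b)<|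
 a (a 2<|a 0<|a (-2)<|a 0<|a 0<|a (-2)<|a 0<|a 6<|a 0<|a (-2)<|a 0<|a 0<|a 2<|a 0<|a 0<|a 0<|a 0<|a 0<|a 0<|a 0<|a 0<|a 0<|a (-2)<|a (-2)<|b)<|
 a (a 0<|a (-2)<|a 0<|a 2<|a 2<|a 0<|a 2<|a 0<|a (-2)<|a 0<|a (-2)<|a 2<|a 0<|a 2<|a (-2)<|a (-2)<|a 2<|a (-2)<|a 2<|a 2<|a 2<|a 2<|a 0<|a 0<|b)<|
 a (a 2<|a 0<|a (-2)<|a 0<|a 0<|a (-2)<|a 0<|a (-2)<|a 0<|a (-2)<|a 0<|a 0<|a 2<|a 0<|a 0<|a 0<|a 0<|a 0<|a 0<|a 0<|a 0<|a 0<|a (-2)<|a 6<|b)<|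
 a (a 0<|a (-2)<|a 0<|a (-2)<|a (-2)<|a 0<|a (-2)<|a 0<|a (-2)<|a 0<|a (-2)<|a 2<|a 0<|a 2<|a 2<|a 2<|a (-2)<|a (-2)<|a 2<|a (-2)<|a (-2)<|a 2<|a 0<|a 0<|b)<|
 a (a 2<|a 0<|a (-2)<|a 0<|a 0<|a (-2)<|a 0<|a (-2)<|a 0<|a (-2)<|a 0<|a 0<|a 2<|a 0<|a 0<|a 0<|a 0<|a 0<|a 0<|a 0<|a 0<|a 0<|a 6<|a (-2)<|b)<|
 a (a 0<|a (-2)<|a 0<|a 2<|a 2<|a 0<|a (-2)<|a 0<|a 2<|a 0<|a (-2)<|a (-2)<|a 0<|a 2<|a 2<|a 2<|a 2<|a 2<|a 2<|a 2<|a (-2)<|a (-2)<|a 0<|a 0<|b)<|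
 a (a 0<|a 2<|a 0<|a 2<|a (-2)<|a 0<|a (-2)<|a 0<|a 2<|a 0<|a (-2)<|a 2<|a 0<|a (-2)<|a (-2)<|a 2<|a (-2)<|a 2<|a 2<|a 2<|a 2<|a 2<|a 0<|a 0<|b)<|
 a (a (-6)<|a 0<|a (-2)<|a 0<|a 0<|a (-2)<|a 0<|a (-2)<|a 0<|a (-2)<|a 0<|a 0<|a 2<|a 0<|a 0<|a 0<|a 0<|a 0<|a 0<|a 0<|a 0<|a 0<|a (-2)<|a (-2)<|b)<|
 a (a 0<|a 2<|a 0<|a (-2)<|a 2<|a 0<|a (-2)<|a 0<|a (-2)<|a 0<|a (-2)<|a (-2)<|a 0<|a (-2)<|a (-2)<|a 2<|a 2<|a (-2)<|a 2<|a (-2)<|a 2<|a (-2)<|a 0<|a 0<|b)<|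
 a (a 0<|a 2<|a 0<|a 2<|a (-2)<|a 0<|a (-2)<|a 0<|a (-2)<|a 0<|a (-2)<|a 2<|a 0<|a 2<|a (-2)<|a (-2)<|a 2<|a 2<|a (-2)<|a (-2)<|a (-2)<|a (-2)<|a 0<|a 0<|b)<|
 a (a 0<|a (-2)<|a 0<|a (-2)<|a (-2)<|a 0<|a (-2)<|a 0<|a 2<|a 0<|a (-2)<|a 2<|a 0<|a (-2)<|a 2<|a (-2)<|a 2<|a (-2)<|a (-2)<|a 2<|a 2<|a (-2)<|a 0<|a 0<|b)<|
 a (a 0<|a 2<|a 0<|a (-2)<|a 2<|a 0<|a (-2)<|a 0<|a 2<|a 0<|a (-2)<|a (-2)<|a 0<|a 2<|a (-2)<|a (-2)<|a (-2)<|a (-2)<|a (-2)<|a 2<|a (-2)<|a 2<|a 0<|a 0<|b)<|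
 a (a 0<|a (-2)<|a 0<|a 2<|a 2<|a 0<|a 2<|a 0<|a 2<|a 0<|a (-2)<|a 2<|a 0<|a (-2)<|a (-2)<|a 2<|a (-2)<|a (-2)<|a (-2)<|a (-2)<|a (-2)<|a (-2)<|a 0<|a 0<|b)<|
 a (a 0<|a (-2)<|a 0<|a (-2)<|a (-2)<|a 0<|a 2<|a 0<|a (-2)<|a 0<|a (-2)<|a (-2)<|a 0<|a (-2)<|a (-2)<|a 2<|a 2<|a 2<|a (-2)<|a 2<|a (-2)<|a 2<|a 0<|a 0<|b)<|
 a (a 0<|a (-2)<|a 0<|a (-2)<|a (-2)<|a 0<|a 2<|a 0<|a 2<|a 0<|a (-2)<|a (-2)<|a 0<|a 2<|a (-2)<|a (-2)<|a (-2)<|a 2<|a 2<|a (-2)<|a 2<|a (-2)<|a 0<|a 0<|b)<|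
 a (a 0<|a 2<|a 0<|a (-2)<|a 2<|a 0<|a 2<|a 0<|a 2<|a 0<|a (-2)<|a 2<|a 0<|a (-2)<|a 2<|a (-2)<|a 2<|a 2<|a 2<|a (-2)<|a (-2)<|a 2<|a 0<|a 0<|b)<|
 a (a 0<|a 2<|a 0<|a (-2)<|a 2<|a 0<|a 2<|a 0<|a (-2)<|a 0<|a (-2)<|a 2<|a 0<|a 2<|a 2<|a 2<|a (-2)<|a 2<|a (-2)<|a 2<|a 2<|a (-2)<|a 0<|a 0<|b)<|
 a (a 2<|a 0<|a 6<|a 0<|a 0<|a (-2)<|a 0<|a (-2)<|a 0<|a (-2)<|a 0<|a 0<|a 2<|a 0<|a 0<|a 0<|a 0<|a 0<|a 0<|a 0<|a 0<|a 0<|a (-2)<|a (-2)<|b)<|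
 a (a 2<|a 0<|a (-2)<|a 0<|a 0<|a 6<|a 0<|a (-2)<|a 0<|a (-2)<|a 0<|a 0<|a 2<|a 0<|a 0<|a 0<|a 0<|a 0<|a 0<|a 0<|a 0<|a 0<|a (-2)<|a (-2)<|b)<|b))

theorem okN3 : Ok N3 (tr N3) := Cfsg.Agent.Co0Q.ok_of (by decide +kernel)

/-- matrix -/
def N4 : List (List ℤ) := (beta% delta% lq26cb34ddca fun a b =>
 (a (a 2<|a 2<|a 0<|a 0<|a 0<|a 0<|a 2<|a 0<|a 0<|a 0<|a (-2)<|a 2<|a 6<|a 0<|a 0<|a 0<|a 0<|a 0<|a 0<|a 0<|a 2<|a 2<|a 0<|a 0<|b)<|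
 a (a (-2)<|a 6<|a 0<|a 0<|a 0<|a 0<|a (-2)<|a 0<|a 0<|a 0<|a 2<|a (-2)<|a 2<|a 0<|a 0<|a 0<|a 0<|a 0<|a 0<|a 0<|a (-2)<|a (-2)<|a 0<|a 0<|b)<|
 a (a 0<|a 0<|a (-2)<|a (-2)<|a 2<|a 2<|a 0<|a 2<|a 2<|a 2<|a 0<|a 0<|a 0<|a 2<|a (-2)<|a 2<|a (-2)<|a (-2)<|a 2<|a (-2)<|a 0<|a 0<|a 2<|a 2<|b)<|
 a (a 0<|a 0<|a 2<|a 2<|a (-2)<|a (-2)<|a 0<|a (-2)<|a 2<|a 2<|a 0<|a 0<|a 0<|a 2<|a (-2)<|a 2<|a 2<|a (-2)<|a 2<|a 2<|a 0<|a 0<|a 2<|a (-2)<|b)<|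
 a (a 0<|a 0<|a (-2)<|a (-2)<|a 2<|a (-2)<|a 0<|a 2<|a (-2)<|a 2<|a 0<|a 0<|a 0<|a 2<|a 2<|a (-2)<|a 2<|a 2<|a 2<|a 2<|a 0<|a 0<|a 2<|a (-2)<|b)<|
 a (a 0<|a 0<|a 2<|a 2<|a 2<|a (-2)<|a 0<|a 2<|a 2<|a 2<|a 0<|a 0<|a 0<|a (-2)<|a 2<|a (-2)<|a (-2)<|a (-2)<|a (-2)<|a 2<|a 0<|a 0<|a 2<|a 2<|b)<|
 a (a (-2)<|a (-2)<|a 0<|a 0<|a 0<|a 0<|a 6<|a 0<|a 0<|a 0<|a 2<|a (-2)<|a 2<|a 0<|a 0<|a 0<|a 0<|a 0<|a 0<|a 0<|a (-2)<|a (-2)<|a 0<|a 0<|b)<|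
 a (a 0<|a 0<|a 2<|a 2<|a (-2)<|a 2<|a 0<|a (-2)<|a (-2)<|a 2<|a 0<|a 0<|a 0<|a 2<|a 2<|a (-2)<|a (-2)<|a 2<|a 2<|a (-2)<|a 0<|a 0<|a 2<|a 2<|b)<|
 a (a 0<|a 0<|a (-2)<|a 2<|a (-2)<|a (-2)<|a 0<|a 2<|a 2<|a 2<|a 0<|a 0<|a 0<|a (-2)<|a 2<|a 2<|a 2<|a 2<|a 2<|a (-2)<|a 0<|a 0<|a (-2)<|a 2<|b)<|
 a (a 0<|a 0<|a 2<|a (-2)<|a (-2)<|a 2<|a 0<|a 2<|a (-2)<|a (-2)<|a 0<|a 0<|a 0<|a (-2)<|a 2<|a 2<|a 2<|a (-2)<|a 2<|a 2<|a 0<|a 0<|a 2<|a 2<|b)<|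
 a (a 2<|a 2<|a 0<|a 0<|a 0<|a 0<|a 2<|a 0<|a 0<|a 0<|a 6<|a 2<|a (-2)<|a 0<|a 0<|a 0<|a 0<|a 0<|a 0<|a 0<|a 2<|a 2<|a 0<|a 0<|b)<|
 a (a (-2)<|a (-2)<|a 0<|a 0<|a 0<|a 0<|a (-2)<|a 0<|a 0<|a 0<|a 2<|a 6<|a 2<|a 0<|a 0<|a 0<|a 0<|a 0<|a 0<|a 0<|a (-2)<|a (-2)<|a 0<|a 0<|b)<|
 a (a 6<|a (-2)<|a 0<|a 0<|a 0<|a 0<|a (-2)<|a 0<|a 0<|a 0<|a 2<|a (-2)<|a 2<|a 0<|a 0<|a 0<|a 0<|a 0<|a 0<|a 0<|a (-2)<|a (-2)<|a 0<|a 0<|b)<|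
 a (a 0<|a 0<|a (-2)<|a 2<|a 2<|a 2<|a 0<|a (-2)<|a (-2)<|a 2<|a 0<|a 0<|a 0<|a 2<|a 2<|a 2<|a 2<|a (-2)<|a (-2)<|a 2<|a 0<|a 0<|a (-2)<|a 2<|b)<|
 a (a 0<|a 0<|a 2<|a (-2)<|a 2<|a (-2)<|a 0<|a (-2)<|a 2<|a (-2)<|a 0<|a 0<|a 0<|a 2<|a 2<|a 2<|a 2<|a 2<|a (-2)<|a (-2)<|a 0<|a 0<|a 2<|a 2<|b)<|
 a (a 0<|a 0<|a (-2)<|a 2<|a (-2)<|a 2<|a 0<|a 2<|a 2<|a (-2)<|a 0<|a 0<|a 0<|a 2<|a 2<|a 2<|a (-2)<|a 2<|a (-2)<|a 2<|a 0<|a 0<|a 2<|a (-2)<|b)<|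
 a (a 0<|a 0<|a 2<|a 2<|a 2<|a 2<|a 0<|a 2<|a 2<|a (-2)<|a 0<|a 0<|a 0<|a 2<|a 2<|a (-2)<|a 2<|a (-2)<|a 2<|a (-2)<|a 0<|a 0<|a (-2)<|a (-2)<|b)<|
 a (a 0<|a 0<|a 2<|a (-2)<|a 2<|a 2<|a 0<|a (-2)<|a 2<|a 2<|a 0<|a 0<|a 0<|a (-2)<|a 2<|a 2<|a (-2)<|a 2<|a 2<|a 2<|a 0<|a 0<|a (-2)<|a (-2)<|b)<|
 a (a 0<|a 0<|a (-2)<|a 2<|a 2<|a 2<|a 0<|a (-2)<|a 2<|a (-2)<|a 0<|a 0<|a 0<|a (-2)<|a (-2)<|a (-2)<|a 2<|a 2<|a 2<|a 2<|a 0<|a 0<|a 2<|a 2<|b)<|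
 a (a 0<|a 0<|a 2<|a 2<|a 2<|a (-2)<|a 0<|a 2<|a (-2)<|a (-2)<|a 0<|a 0<|a 0<|a 2<|a (-2)<|a 2<|a (-2)<|a 2<|a 2<|a 2<|a 0<|a 0<|a (-2)<|a 2<|b)<|
 a (a (-2)<|a (-2)<|a 0<|a 0<|a 0<|a 0<|a (-2)<|a 0<|a 0<|a 0<|a 2<|a (-2)<|a 2<|a 0<|a 0<|a 0<|a 0<|a 0<|a 0<|a 0<|a 6<|a (-2)<|a 0<|a 0<|b)<|
 a (a (-2)<|a (-2)<|a 0<|a 0<|a 0<|a 0<|a (-2)<|a 0<|a 0<|a 0<|a 2<|a (-2)<|a 2<|a 0<|a 0<|a 0<|a 0<|a 0<|a 0<|a 0<|a (-2)<|a 6<|a 0<|a 0<|b)<|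
 a (a 0<|a 0<|a 2<|a (-2)<|a (-2)<|a 2<|a 0<|a 2<|a 2<|a 2<|a 0<|a 0<|a 0<|a 2<|a (-2)<|a (-2)<|a 2<|a 2<|a (-2)<|a 2<|a 0<|a 0<|a (-2)<|a 2<|b)<|
 a (a 0<|a 0<|a 2<|a 2<|a 2<|a 2<|a 0<|a 2<|a (-2)<|a 2<|a 0<|a 0<|a 0<|a (-2)<|a (-2)<|a 2<|a 2<|a 2<|a (-2)<|a (-2)<|a 0<|a 0<|a 2<|a (-2)<|b)<|b))

theorem okN4 : Ok N4 (tr N4) := Cfsg.Agent.Co0Q.ok_of (by decide +kernel)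

/-- matrix -/
def N5 : List (List ℤ) := (beta% delta% lq26cb34ddca fun a b =>
 (a (a 2<|a 2<|a 0<|a 0<|a 0<|a 0<|a 2<|a 0<|a 0<|a 0<|a 2<|a 2<|a (-6)<|a 0<|a 0<|a 0<|a 0<|a 0<|a 0<|a 0<|a (-2)<|a (-2)<|a 0<|a 0<|b)<|
 a (a (-2)<|a 6<|a 0<|a 0<|a 0<|a 0<|a (-2)<|a 0<|a 0<|a 0<|a (-2)<|a (-2)<|a (-2)<|a 0<|a 0<|a 0<|a 0<|a 0<|a 0<|a 0<|a 2<|a 2<|a 0<|a 0<|b)<|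
 a (a 0<|a 0<|a (-2)<|a (-2)<|a (-2)<|a (-2)<|a 0<|a (-2)<|a (-2)<|a 2<|a 0<|a 0<|a 0<|a (-2)<|a 2<|a (-2)<|a 2<|a 2<|a (-2)<|a 2<|a 0<|a 0<|a 2<|a (-2)<|b)<|
 a (a 0<|a 0<|a 2<|a 2<|a 2<|a 2<|a 0<|a 2<|a (-2)<|a 2<|a 0<|a 0<|a 0<|a (-2)<|a 2<|a (-2)<|a (-2)<|a 2<|a (-2)<|a (-2)<|a 0<|a 0<|a 2<|a 2<|b)<|
 a (a 0<|a 0<|a 2<|a 2<|a 2<|a (-2)<|a 0<|a 2<|a (-2)<|a (-2)<|a 0<|a 0<|a 0<|a 2<|a 2<|a (-2)<|a 2<|a 2<|a 2<|a 2<|a 0<|a 0<|a (-2)<|a (-2)<|b)<|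
 a (a 0<|a 0<|a (-2)<|a (-2)<|a 2<|a (-2)<|a 0<|a 2<|a 2<|a (-2)<|a 0<|a 0<|a 0<|a (-2)<|a 2<|a (-2)<|a (-2)<|a (-2)<|a (-2)<|a 2<|a 0<|a 0<|a (-2)<|a 2<|b)<|
 a (a (-2)<|a (-2)<|a 0<|a 0<|a 0<|a 0<|a 6<|a 0<|a 0<|a 0<|a (-2)<|a (-2)<|a (-2)<|a 0<|a 0<|a 0<|a 0<|a 0<|a 0<|a 0<|a 2<|a 2<|a 0<|a 0<|b)<|
 a (a 0<|a 0<|a (-2)<|a (-2)<|a (-2)<|a 2<|a 0<|a (-2)<|a (-2)<|a (-2)<|a 0<|a 0<|a 0<|a 2<|a 2<|a (-2)<|a (-2)<|a 2<|a 2<|a (-2)<|a 0<|a 0<|a (-2)<|a 2<|b)<|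
 a (a 0<|a 0<|a 2<|a (-2)<|a (-2)<|a (-2)<|a 0<|a 2<|a 2<|a (-2)<|a 0<|a 0<|a 0<|a (-2)<|a 2<|a 2<|a 2<|a 2<|a 2<|a (-2)<|a 0<|a 0<|a 2<|a 2<|b)<|
 a (a 0<|a 0<|a 2<|a (-2)<|a 2<|a (-2)<|a 0<|a (-2)<|a 2<|a (-2)<|a 0<|a 0<|a 0<|a 2<|a (-2)<|a (-2)<|a (-2)<|a 2<|a (-2)<|a (-2)<|a 0<|a 0<|a 2<|a (-2)<|b)<|
 a (a (-2)<|a (-2)<|a 0<|a 0<|a 0<|a 0<|a (-2)<|a 0<|a 0<|a 0<|a 6<|a (-2)<|a (-2)<|a 0<|a 0<|a 0<|a 0<|a 0<|a 0<|a 0<|a 2<|a 2<|a 0<|a 0<|b)<|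
 a (a (-2)<|a (-2)<|a 0<|a 0<|a 0<|a 0<|a (-2)<|a 0<|a 0<|a 0<|a (-2)<|a 6<|a (-2)<|a 0<|a 0<|a 0<|a 0<|a 0<|a 0<|a 0<|a 2<|a 2<|a 0<|a 0<|b)<|
 a (a (-6)<|a 2<|a 0<|a 0<|a 0<|a 0<|a 2<|a 0<|a 0<|a 0<|a 2<|a 2<|a 2<|a 0<|a 0<|a 0<|a 0<|a 0<|a 0<|a 0<|a (-2)<|a (-2)<|a 0<|a 0<|b)<|
 a (a 0<|a 0<|a 2<|a (-2)<|a 2<|a 2<|a 0<|a (-2)<|a (-2)<|a (-2)<|a 0<|a 0<|a 0<|a 2<|a 2<|a 2<|a 2<|a (-2)<|a (-2)<|a 2<|a 0<|a 0<|a 2<|a 2<|b)<|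
 a (a 0<|a 0<|a (-2)<|a 2<|a 2<|a (-2)<|a 0<|a (-2)<|a 2<|a 2<|a 0<|a 0<|a 0<|a 2<|a 2<|a 2<|a 2<|a 2<|a (-2)<|a (-2)<|a 0<|a 0<|a (-2)<|a 2<|b)<|
 a (a 0<|a 0<|a 2<|a (-2)<|a (-2)<|a 2<|a 0<|a 2<|a 2<|a 2<|a 0<|a 0<|a 0<|a 2<|a 2<|a 2<|a (-2)<|a 2<|a (-2)<|a 2<|a 0<|a 0<|a (-2)<|a (-2)<|b)<|
 a (a 0<|a 0<|a (-2)<|a (-2)<|a 2<|a 2<|a 0<|a 2<|a 2<|a 2<|a 0<|a 0<|a 0<|a 2<|a 2<|a (-2)<|a 2<|a (-2)<|a 2<|a (-2)<|a 0<|a 0<|a 2<|a (-2)<|b)<|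
 a (a 0<|a 0<|a (-2)<|a 2<|a 2<|a 2<|a 0<|a (-2)<|a 2<|a (-2)<|a 0<|a 0<|a 0<|a (-2)<|a 2<|a 2<|a (-2)<|a 2<|a 2<|a 2<|a 0<|a 0<|a 2<|a (-2)<|b)<|
 a (a 0<|a 0<|a 2<|a (-2)<|a 2<|a 2<|a 0<|a (-2)<|a 2<|a 2<|a 0<|a 0<|a 0<|a (-2)<|a (-2)<|a (-2)<|a 2<|a 2<|a 2<|a 2<|a 0<|a 0<|a (-2)<|a 2<|b)<|
 a (a 0<|a 0<|a (-2)<|a (-2)<|a 2<|a (-2)<|a 0<|a 2<|a (-2)<|a 2<|a 0<|a 0<|a 0<|a 2<|a (-2)<|a 2<|a (-2)<|a 2<|a 2<|a 2<|a 0<|a 0<|a 2<|a 2<|b)<|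
 a (a 2<|a 2<|a 0<|a 0<|a 0<|a 0<|a 2<|a 0<|a 0<|a 0<|a 2<|a 2<|a 2<|a 0<|a 0<|a 0<|a 0<|a 0<|a 0<|a 0<|a 6<|a (-2)<|a 0<|a 0<|b)<|
 a (a 2<|a 2<|a 0<|a 0<|a 0<|a 0<|a 2<|a 0<|a 0<|a 0<|a 2<|a 2<|a 2<|a 0<|a 0<|a 0<|a 0<|a 0<|a 0<|a 0<|a (-2)<|a 6<|a 0<|a 0<|b)<|
 a (a 0<|a 0<|a 2<|a (-2)<|a 2<|a (-2)<|a 0<|a (-2)<|a (-2)<|a 2<|a 0<|a 0<|a 0<|a (-2)<|a 2<|a 2<|a (-2)<|a (-2)<|a 2<|a (-2)<|a 0<|a 0<|a (-2)<|a (-2)<|b)<|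
 a (a 0<|a 0<|a (-2)<|a (-2)<|a 2<|a 2<|a 0<|a 2<|a (-2)<|a (-2)<|a 0<|a 0<|a 0<|a (-2)<|a (-2)<|a 2<|a 2<|a 2<|a (-2)<|a (-2)<|a 0<|a 0<|a (-2)<|a (-2)<|b)<|b))

theorem okN5 : Ok N5 (tr N5) := Cfsg.Agent.Co0Q.ok_of (by decide +kernel)

end Cfsg.Agent.H956.Co1P
end

-- part: H956/Co1P/MatB
section
/-!
# Explicit elements of `Co0` (helper956; generated)
-/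

set_option autoImplicit false
set_option maxRecDepth 20000

namespace Cfsg.Agent.H956.Co1P

open Cfsg.Agent.LThreeCo1.Ev Cfsg.Agent.SporadicStructure.Co0Matrix Cfsg.Agent.CoOneType.CoEval

/-- matrix -/
def N6 : List (List ℤ) := (beta% delta% lq26cb34ddca fun a b =>
 (a (a (-4)<|a 0<|a 4<|a 0<|a 0<|a 0<|a 0<|a 0<|a 0<|a 4<|a 0<|a 0<|a 0<|a 0<|a 0<|a 0<|a 0<|a 0<|a 0<|a 0<|a 0<|a 0<|a 4<|a 0<|b)<|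
 a (a 0<|a (-4)<|a 0<|a (-4)<|a 0<|a 0<|a 4<|a 0<|a 0<|a 0<|a 0<|a (-4)<|a 0<|a 0<|a 0<|a 0<|a 0<|a 0<|a 0<|a 0<|a 0<|a 0<|a 0<|a 0<|b)<|
 a (a (-4)<|a 0<|a (-4)<|a 0<|a 0<|a 0<|a 0<|a 0<|a 0<|a (-4)<|a 0<|a 0<|a 0<|a 0<|a 0<|a 0<|a 0<|a 0<|a 0<|a 0<|a 0<|a 0<|a 4<|a 0<|b)<|
 a (a 0<|a 4<|a 0<|a (-4)<|a 0<|a 0<|a 4<|a 0<|a 0<|a 0<|a 0<|a 4<|a 0<|a 0<|a 0<|a 0<|a 0<|a 0<|a 0<|a 0<|a 0<|a 0<|a 0<|a 0<|b)<|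
 a (a 0<|a 0<|a 0<|a 0<|a (-4)<|a 0<|a 0<|a 0<|a 0<|a 0<|a (-4)<|a 0<|a 0<|a 0<|a (-4)<|a 0<|a 0<|a 4<|a 0<|a 0<|a 0<|a 0<|a 0<|a 0<|b)<|
 a (a 0<|a 0<|a 0<|a 0<|a 0<|a (-4)<|a 0<|a (-4)<|a 0<|a 0<|a 0<|a 0<|a (-4)<|a 0<|a 0<|a 0<|a 0<|a 0<|a 0<|a 0<|a 0<|a 0<|a 0<|a 4<|b)<|
 a (a 0<|a (-4)<|a 0<|a (-4)<|a 0<|a 0<|a (-4)<|a 0<|a 0<|a 0<|a 0<|a 4<|a 0<|a 0<|a 0<|a 0<|a 0<|a 0<|a 0<|a 0<|a 0<|a 0<|a 0<|a 0<|b)<|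
 a (a 0<|a 0<|a 0<|a 0<|a 0<|a 4<|a 0<|a (-4)<|a 0<|a 0<|a 0<|a 0<|a (-4)<|a 0<|a 0<|a 0<|a 0<|a 0<|a 0<|a 0<|a 0<|a 0<|a 0<|a (-4)<|b)<|
 a (a 0<|a 0<|a 0<|a 0<|a 0<|a 0<|a 0<|a 0<|a (-4)<|a 0<|a 0<|a 0<|a 0<|a 0<|a 0<|a 0<|a 4<|a 0<|a (-4)<|a 0<|a (-4)<|a 0<|a 0<|a 0<|b)<|
 a (a (-4)<|a 0<|a 4<|a 0<|a 0<|a 0<|a 0<|a 0<|a 0<|a (-4)<|a 0<|a 0<|a 0<|a 0<|a 0<|a 0<|a 0<|a 0<|a 0<|a 0<|a 0<|a 0<|a (-4)<|a 0<|b)<|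
 a (a 0<|a 0<|a 0<|a 0<|a 4<|a 0<|a 0<|a 0<|a 0<|a 0<|a (-4)<|a 0<|a 0<|a 0<|a 4<|a 0<|a 0<|a 4<|a 0<|a 0<|a 0<|a 0<|a 0<|a 0<|b)<|
 a (a 0<|a 4<|a 0<|a (-4)<|a 0<|a 0<|a (-4)<|a 0<|a 0<|a 0<|a 0<|a (-4)<|a 0<|a 0<|a 0<|a 0<|a 0<|a 0<|a 0<|a 0<|a 0<|a 0<|a 0<|a 0<|b)<|
 a (a 0<|a 0<|a 0<|a 0<|a 0<|a 4<|a 0<|a 4<|a 0<|a 0<|a 0<|a 0<|a (-4)<|a 0<|a 0<|a 0<|a 0<|a 0<|a 0<|a 0<|a 0<|a 0<|a 0<|a 4<|b)<|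
 a (a 0<|a 0<|a 0<|a 0<|a 0<|a 0<|a 0<|a 0<|a 0<|a 0<|a 0<|a 0<|a 0<|a (-4)<|a 0<|a (-4)<|a 0<|a 0<|a 0<|a 4<|a 0<|a (-4)<|a 0<|a 0<|b)<|
 a (a 0<|a 0<|a 0<|a 0<|a 4<|a 0<|a 0<|a 0<|a 0<|a 0<|a (-4)<|a 0<|a 0<|a 0<|a (-4)<|a 0<|a 0<|a (-4)<|a 0<|a 0<|a 0<|a 0<|a 0<|a 0<|b)<|
 a (a 0<|a 0<|a 0<|a 0<|a 0<|a 0<|a 0<|a 0<|a 0<|a 0<|a 0<|a 0<|a 0<|a 4<|a 0<|a (-4)<|a 0<|a 0<|a 0<|a (-4)<|a 0<|a (-4)<|a 0<|a 0<|b)<|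
 a (a 0<|a 0<|a 0<|a 0<|a 0<|a 0<|a 0<|a 0<|a (-4)<|a 0<|a 0<|a 0<|a 0<|a 0<|a 0<|a 0<|a (-4)<|a 0<|a 4<|a 0<|a (-4)<|a 0<|a 0<|a 0<|b)<|
 a (a 0<|a 0<|a 0<|a 0<|a (-4)<|a 0<|a 0<|a 0<|a 0<|a 0<|a (-4)<|a 0<|a 0<|a 0<|a 4<|a 0<|a 0<|a (-4)<|a 0<|a 0<|a 0<|a 0<|a 0<|a 0<|b)<|
 a (a 0<|a 0<|a 0<|a 0<|a 0<|a 0<|a 0<|a 0<|a 4<|a 0<|a 0<|a 0<|a 0<|a 0<|a 0<|a 0<|a (-4)<|a 0<|a (-4)<|a 0<|a (-4)<|a 0<|a 0<|a 0<|b)<|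
 a (a 0<|a 0<|a 0<|a 0<|a 0<|a 0<|a 0<|a 0<|a 0<|a 0<|a 0<|a 0<|a 0<|a (-4)<|a 0<|a 4<|a 0<|a 0<|a 0<|a (-4)<|a 0<|a (-4)<|a 0<|a 0<|b)<|
 a (a 0<|a 0<|a 0<|a 0<|a 0<|a 0<|a 0<|a 0<|a 4<|a 0<|a 0<|a 0<|a 0<|a 0<|a 0<|a 0<|a 4<|a 0<|a 4<|a 0<|a (-4)<|a 0<|a 0<|a 0<|b)<|
 a (a 0<|a 0<|a 0<|a 0<|a 0<|a 0<|a 0<|a 0<|a 0<|a 0<|a 0<|a 0<|a 0<|a 4<|a 0<|a 4<|a 0<|a 0<|a 0<|a 4<|a 0<|a (-4)<|a 0<|a 0<|b)<|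
 a (a (-4)<|a 0<|a (-4)<|a 0<|a 0<|a 0<|a 0<|a 0<|a 0<|a 4<|a 0<|a 0<|a 0<|a 0<|a 0<|a 0<|a 0<|a 0<|a 0<|a 0<|a 0<|a 0<|a (-4)<|a 0<|b)<|
 a (a 0<|a 0<|a 0<|a 0<|a 0<|a (-4)<|a 0<|a 4<|a 0<|a 0<|a 0<|a 0<|a (-4)<|a 0<|a 0<|a 0<|a 0<|a 0<|a 0<|a 0<|a 0<|a 0<|a 0<|a (-4)<|b)<|b))

theorem okN6 : Ok N6 (tr N6) := Cfsg.Agent.Co0Q.ok_of (by decide +kernel)

/-- matrix -/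
def N7 : List (List ℤ) := (beta% delta% lq26cb34ddca fun a b =>
 (a (a 4<|a 0<|a 0<|a 0<|a 0<|a 0<|a 0<|a (-4)<|a 0<|a 0<|a 0<|a 0<|a 4<|a 0<|a 0<|a 0<|a 0<|a 0<|a 0<|a 0<|a 0<|a 0<|a 0<|a 4<|b)<|
 a (a 0<|a 4<|a 0<|a 0<|a 0<|a 0<|a 0<|a 0<|a 0<|a 0<|a 0<|a 0<|a 0<|a (-4)<|a (-4)<|a 0<|a 0<|a 0<|a 0<|a 0<|a (-4)<|a 0<|a 0<|a 0<|b)<|
 a (a 4<|a 0<|a 0<|a 0<|a 0<|a 0<|a 0<|a 4<|a 0<|a 0<|a 0<|a 0<|a (-4)<|a 0<|a 0<|a 0<|a 0<|a 0<|a 0<|a 0<|a 0<|a 0<|a 0<|a 4<|b)<|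
 a (a 0<|a 0<|a 0<|a 4<|a 0<|a 0<|a 0<|a 0<|a 4<|a 0<|a 0<|a 0<|a 0<|a 0<|a 0<|a 0<|a 0<|a (-4)<|a 0<|a 4<|a 0<|a 0<|a 0<|a 0<|b)<|
 a (a 0<|a 0<|a 0<|a 0<|a 4<|a 0<|a 0<|a 0<|a 0<|a 0<|a 0<|a 4<|a 0<|a 0<|a 0<|a 0<|a (-4)<|a 0<|a 0<|a 0<|a 0<|a 4<|a 0<|a 0<|b)<|
 a (a 0<|a 0<|a 4<|a 0<|a 0<|a 4<|a 0<|a 0<|a 0<|a 4<|a 0<|a 0<|a 0<|a 0<|a 0<|a 0<|a 0<|a 0<|a 0<|a 0<|a 0<|a 0<|a (-4)<|a 0<|b)<|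
 a (a 0<|a 0<|a 0<|a 0<|a 0<|a 0<|a 4<|a 0<|a 0<|a 0<|a 4<|a 0<|a 0<|a 0<|a 0<|a 4<|a 0<|a 0<|a (-4)<|a 0<|a 0<|a 0<|a 0<|a 0<|b)<|
 a (a 0<|a 0<|a (-4)<|a 0<|a 0<|a 4<|a 0<|a 0<|a 0<|a 4<|a 0<|a 0<|a 0<|a 0<|a 0<|a 0<|a 0<|a 0<|a 0<|a 0<|a 0<|a 0<|a 4<|a 0<|b)<|
 a (a 0<|a 0<|a 0<|a 0<|a 0<|a 0<|a 4<|a 0<|a 0<|a 0<|a (-4)<|a 0<|a 0<|a 0<|a 0<|a 4<|a 0<|a 0<|a 4<|a 0<|a 0<|a 0<|a 0<|a 0<|b)<|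
 a (a (-4)<|a 0<|a 0<|a 0<|a 0<|a 0<|a 0<|a 4<|a 0<|a 0<|a 0<|a 0<|a 4<|a 0<|a 0<|a 0<|a 0<|a 0<|a 0<|a 0<|a 0<|a 0<|a 0<|a 4<|b)<|
 a (a 0<|a 0<|a 0<|a 0<|a 0<|a 0<|a 4<|a 0<|a 0<|a 0<|a 4<|a 0<|a 0<|a 0<|a 0<|a (-4)<|a 0<|a 0<|a 4<|a 0<|a 0<|a 0<|a 0<|a 0<|b)<|
 a (a 0<|a 0<|a 0<|a 0<|a 4<|a 0<|a 0<|a 0<|a 0<|a 0<|a 0<|a 4<|a 0<|a 0<|a 0<|a 0<|a 4<|a 0<|a 0<|a 0<|a 0<|a (-4)<|a 0<|a 0<|b)<|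
 a (a 4<|a 0<|a 0<|a 0<|a 0<|a 0<|a 0<|a 4<|a 0<|a 0<|a 0<|a 0<|a 4<|a 0<|a 0<|a 0<|a 0<|a 0<|a 0<|a 0<|a 0<|a 0<|a 0<|a (-4)<|b)<|
 a (a 0<|a 0<|a 0<|a 0<|a (-4)<|a 0<|a 0<|a 0<|a 0<|a 0<|a 0<|a 4<|a 0<|a 0<|a 0<|a 0<|a 4<|a 0<|a 0<|a 0<|a 0<|a 4<|a 0<|a 0<|b)<|
 a (a 0<|a (-4)<|a 0<|a 0<|a 0<|a 0<|a 0<|a 0<|a 0<|a 0<|a 0<|a 0<|a 0<|a (-4)<|a 4<|a 0<|a 0<|a 0<|a 0<|a 0<|a (-4)<|a 0<|a 0<|a 0<|b)<|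
 a (a 0<|a 0<|a 0<|a 4<|a 0<|a 0<|a 0<|a 0<|a 4<|a 0<|a 0<|a 0<|a 0<|a 0<|a 0<|a 0<|a 0<|a 4<|a 0<|a (-4)<|a 0<|a 0<|a 0<|a 0<|b)<|
 a (a 0<|a (-4)<|a 0<|a 0<|a 0<|a 0<|a 0<|a 0<|a 0<|a 0<|a 0<|a 0<|a 0<|a 4<|a (-4)<|a 0<|a 0<|a 0<|a 0<|a 0<|a (-4)<|a 0<|a 0<|a 0<|b)<|
 a (a 0<|a 0<|a 0<|a (-4)<|a 0<|a 0<|a 0<|a 0<|a 4<|a 0<|a 0<|a 0<|a 0<|a 0<|a 0<|a 0<|a 0<|a 4<|a 0<|a 4<|a 0<|a 0<|a 0<|a 0<|b)<|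
 a (a 0<|a 0<|a 0<|a 4<|a 0<|a 0<|a 0<|a 0<|a (-4)<|a 0<|a 0<|a 0<|a 0<|a 0<|a 0<|a 0<|a 0<|a 4<|a 0<|a 4<|a 0<|a 0<|a 0<|a 0<|b)<|
 a (a 0<|a 0<|a 0<|a 0<|a 0<|a 0<|a (-4)<|a 0<|a 0<|a 0<|a 4<|a 0<|a 0<|a 0<|a 0<|a 4<|a 0<|a 0<|a 4<|a 0<|a 0<|a 0<|a 0<|a 0<|b)<|
 a (a 0<|a 0<|a 0<|a 0<|a 4<|a 0<|a 0<|a 0<|a 0<|a 0<|a 0<|a (-4)<|a 0<|a 0<|a 0<|a 0<|a 4<|a 0<|a 0<|a 0<|a 0<|a 4<|a 0<|a 0<|b)<|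
 a (a 0<|a (-4)<|a 0<|a 0<|a 0<|a 0<|a 0<|a 0<|a 0<|a 0<|a 0<|a 0<|a 0<|a (-4)<|a (-4)<|a 0<|a 0<|a 0<|a 0<|a 0<|a 4<|a 0<|a 0<|a 0<|b)<|
 a (a 0<|a 0<|a 4<|a 0<|a 0<|a (-4)<|a 0<|a 0<|a 0<|a 4<|a 0<|a 0<|a 0<|a 0<|a 0<|a 0<|a 0<|a 0<|a 0<|a 0<|a 0<|a 0<|a 4<|a 0<|b)<|
 a (a 0<|a 0<|a 4<|a 0<|a 0<|a 4<|a 0<|a 0<|a 0<|a (-4)<|a 0<|a 0<|a 0<|a 0<|a 0<|a 0<|a 0<|a 0<|a 0<|a 0<|a 0<|a 0<|a 4<|a 0<|b)<|b))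

theorem okN7 : Ok N7 (tr N7) := Cfsg.Agent.Co0Q.ok_of (by decide +kernel)

/-- matrix -/
def N8 : List (List ℤ) := (beta% delta% lq26cb34ddca fun a b =>
 (a (a 2<|a (-2)<|a 0<|a 2<|a 0<|a 0<|a 0<|a 0<|a 0<|a 0<|a 0<|a 2<|a (-6)<|a 2<|a 0<|a 0<|a 2<|a (-2)<|a 0<|a 0<|a 0<|a 0<|a 0<|a 0<|b)<|
 a (a 2<|a 6<|a 0<|a 2<|a 0<|a 0<|a 0<|a 0<|a 0<|a 0<|a 0<|a 2<|a 2<|a 2<|a 0<|a 0<|a 2<|a (-2)<|a 0<|a 0<|a 0<|a 0<|a 0<|a 0<|b)<|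
 a (a 0<|a 0<|a (-2)<|a 0<|a (-2)<|a (-2)<|a 2<|a (-2)<|a 2<|a 2<|a 2<|a 0<|a 0<|a 0<|a (-2)<|a (-2)<|a 0<|a 0<|a (-2)<|a (-2)<|a 2<|a (-2)<|a 2<|a (-2)<|b)<|
 a (a (-2)<|a 2<|a 0<|a 6<|a 0<|a 0<|a 0<|a 0<|a 0<|a 0<|a 0<|a (-2)<|a (-2)<|a (-2)<|a 0<|a 0<|a (-2)<|a 2<|a 0<|a 0<|a 0<|a 0<|a 0<|a 0<|b)<|
 a (a 0<|a 0<|a 2<|a 0<|a 2<|a 2<|a 2<|a 2<|a (-2)<|a (-2)<|a (-2)<|a 0<|a 0<|a 0<|a (-2)<|a (-2)<|a 0<|a 0<|a (-2)<|a (-2)<|a (-2)<|a (-2)<|a 2<|a (-2)<|b)<|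
 a (a 0<|a 0<|a (-2)<|a 0<|a (-2)<|a (-2)<|a 2<|a 2<|a 2<|a (-2)<|a (-2)<|a 0<|a 0<|a 0<|a 2<|a (-2)<|a 0<|a 0<|a 2<|a (-2)<|a (-2)<|a (-2)<|a (-2)<|a 2<|b)<|
 a (a 0<|a 0<|a (-2)<|a 0<|a 2<|a (-2)<|a 2<|a (-2)<|a (-2)<|a (-2)<|a (-2)<|a 0<|a 0<|a 0<|a (-2)<|a (-2)<|a 0<|a 0<|a 2<|a 2<|a 2<|a 2<|a (-2)<|a (-2)<|b)<|
 a (a 0<|a 0<|a (-2)<|a 0<|a (-2)<|a 2<|a 2<|a (-2)<|a (-2)<|a (-2)<|a 2<|a 0<|a 0<|a 0<|a (-2)<|a 2<|a 0<|a 0<|a (-2)<|a (-2)<|a (-2)<|a 2<|a (-2)<|a 2<|b)<|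
 a (a 0<|a 0<|a (-2)<|a 0<|a (-2)<|a (-2)<|a (-2)<|a 2<|a 2<|a (-2)<|a (-2)<|a 0<|a 0<|a 0<|a (-2)<|a 2<|a 0<|a 0<|a (-2)<|a 2<|a (-2)<|a 2<|a 2<|a (-2)<|b)<|
 a (a 0<|a 0<|a 2<|a 0<|a 2<|a (-2)<|a 2<|a (-2)<|a 2<|a (-2)<|a 2<|a 0<|a 0<|a 0<|a 2<|a 2<|a 0<|a 0<|a 2<|a (-2)<|a (-2)<|a 2<|a 2<|a (-2)<|b)<|
 a (a 0<|a 0<|a (-2)<|a 0<|a (-2)<|a 2<|a (-2)<|a (-2)<|a (-2)<|a (-2)<|a 2<|a 0<|a 0<|a 0<|a 2<|a (-2)<|a 0<|a 0<|a 2<|a 2<|a (-2)<|a (-2)<|a 2<|a (-2)<|b)<|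
 a (a (-2)<|a 2<|a 0<|a (-2)<|a 0<|a 0<|a 0<|a 0<|a 0<|a 0<|a 0<|a 6<|a (-2)<|a (-2)<|a 0<|a 0<|a (-2)<|a 2<|a 0<|a 0<|a 0<|a 0<|a 0<|a 0<|b)<|
 a (a (-6)<|a (-2)<|a 0<|a 2<|a 0<|a 0<|a 0<|a 0<|a 0<|a 0<|a 0<|a 2<|a 2<|a 2<|a 0<|a 0<|a 2<|a (-2)<|a 0<|a 0<|a 0<|a 0<|a 0<|a 0<|b)<|
 a (a (-2)<|a 2<|a 0<|a (-2)<|a 0<|a 0<|a 0<|a 0<|a 0<|a 0<|a 0<|a (-2)<|a (-2)<|a 6<|a 0<|a 0<|a (-2)<|a 2<|a 0<|a 0<|a 0<|a 0<|a 0<|a 0<|b)<|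
 a (a 0<|a 0<|a 2<|a 0<|a (-2)<|a (-2)<|a (-2)<|a 2<|a (-2)<|a (-2)<|a 2<|a 0<|a 0<|a 0<|a 2<|a (-2)<|a 0<|a 0<|a (-2)<|a (-2)<|a 2<|a 2<|a (-2)<|a (-2)<|b)<|
 a (a 0<|a 0<|a 2<|a 0<|a (-2)<|a 2<|a (-2)<|a (-2)<|a 2<|a (-2)<|a (-2)<|a 0<|a 0<|a 0<|a (-2)<|a 2<|a 0<|a 0<|a 2<|a (-2)<|a 2<|a (-2)<|a (-2)<|a (-2)<|b)<|
 a (a (-2)<|a 2<|a 0<|a (-2)<|a 0<|a 0<|a 0<|a 0<|a 0<|a 0<|a 0<|a (-2)<|a (-2)<|a (-2)<|a 0<|a 0<|a 6<|a 2<|a 0<|a 0<|a 0<|a 0<|a 0<|a 0<|b)<|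
 a (a 2<|a (-2)<|a 0<|a 2<|a 0<|a 0<|a 0<|a 0<|a 0<|a 0<|a 0<|a 2<|a 2<|a 2<|a 0<|a 0<|a 2<|a 6<|a 0<|a 0<|a 0<|a 0<|a 0<|a 0<|b)<|
 a (a 0<|a 0<|a 2<|a 0<|a (-2)<|a (-2)<|a 2<|a 2<|a (-2)<|a (-2)<|a 2<|a 0<|a 0<|a 0<|a (-2)<|a 2<|a 0<|a 0<|a 2<|a 2<|a 2<|a (-2)<|a 2<|a 2<|b)<|
 a (a 0<|a 0<|a 2<|a 0<|a (-2)<|a 2<|a 2<|a 2<|a 2<|a 2<|a 2<|a 0<|a 0<|a 0<|a (-2)<|a (-2)<|a 0<|a 0<|a 2<|a 2<|a (-2)<|a 2<|a (-2)<|a (-2)<|b)<|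
 a (a 0<|a 0<|a (-2)<|a 0<|a (-2)<|a 2<|a 2<|a 2<|a (-2)<|a 2<|a (-2)<|a 0<|a 0<|a 0<|a 2<|a 2<|a 0<|a 0<|a 2<|a (-2)<|a 2<|a 2<|a 2<|a (-2)<|b)<|
 a (a 0<|a 0<|a 2<|a 0<|a (-2)<|a 2<|a 2<|a (-2)<|a 2<|a (-2)<|a (-2)<|a 0<|a 0<|a 0<|a 2<|a (-2)<|a 0<|a 0<|a (-2)<|a 2<|a 2<|a 2<|a 2<|a 2<|b)<|
 a (a 0<|a 0<|a 2<|a 0<|a (-2)<|a (-2)<|a 2<|a (-2)<|a (-2)<|a 2<|a (-2)<|a 0<|a 0<|a 0<|a 2<|a 2<|a 0<|a 0<|a (-2)<|a 2<|a (-2)<|a (-2)<|a (-2)<|a (-2)<|b)<|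
 a (a 0<|a 0<|a (-2)<|a 0<|a 2<|a 2<|a 2<|a 2<|a 2<|a (-2)<|a 2<|a 0<|a 0<|a 0<|a 2<|a 2<|a 0<|a 0<|a (-2)<|a 2<|a 2<|a (-2)<|a (-2)<|a (-2)<|b)<|b))

theorem okN8 : Ok N8 (tr N8) := Cfsg.Agent.Co0Q.ok_of (by decide +kernel)

/-- matrix -/
def N9 : List (List ℤ) := (beta% delta% lq26cb34ddca fun a b =>
 (a (a 2<|a (-2)<|a 0<|a 2<|a 0<|a 0<|a 0<|a 0<|a 0<|a 0<|a 0<|a 2<|a 6<|a (-2)<|a 0<|a 0<|a (-2)<|a 2<|a 0<|a 0<|a 0<|a 0<|a 0<|a 0<|b)<|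
 a (a 2<|a 6<|a 0<|a 2<|a 0<|a 0<|a 0<|a 0<|a 0<|a 0<|a 0<|a 2<|a (-2)<|a (-2)<|a 0<|a 0<|a (-2)<|a 2<|a 0<|a 0<|a 0<|a 0<|a 0<|a 0<|b)<|
 a (a 0<|a 0<|a (-2)<|a 0<|a 2<|a 2<|a 2<|a 2<|a (-2)<|a 2<|a (-2)<|a 0<|a 0<|a 0<|a 2<|a 2<|a 0<|a 0<|a 2<|a 2<|a (-2)<|a 2<|a 2<|a 2<|b)<|
 a (a (-2)<|a 2<|a 0<|a 6<|a 0<|a 0<|a 0<|a 0<|a 0<|a 0<|a 0<|a (-2)<|a 2<|a 2<|a 0<|a 0<|a 2<|a (-2)<|a 0<|a 0<|a 0<|a 0<|a 0<|a 0<|b)<|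
 a (a 0<|a 0<|a (-2)<|a 0<|a 2<|a 2<|a (-2)<|a 2<|a (-2)<|a 2<|a (-2)<|a 0<|a 0<|a 0<|a (-2)<|a (-2)<|a 0<|a 0<|a (-2)<|a (-2)<|a (-2)<|a (-2)<|a (-2)<|a (-2)<|b)<|
 a (a 0<|a 0<|a 2<|a 0<|a (-2)<|a (-2)<|a (-2)<|a 2<|a 2<|a 2<|a (-2)<|a 0<|a 0<|a 0<|a 2<|a (-2)<|a 0<|a 0<|a 2<|a (-2)<|a (-2)<|a (-2)<|a 2<|a 2<|b)<|
 a (a 0<|a 0<|a (-2)<|a 0<|a (-2)<|a 2<|a 2<|a 2<|a 2<|a (-2)<|a 2<|a 0<|a 0<|a 0<|a 2<|a 2<|a 0<|a 0<|a (-2)<|a (-2)<|a (-2)<|a (-2)<|a (-2)<|a 2<|b)<|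
 a (a 0<|a 0<|a 2<|a 0<|a (-2)<|a 2<|a (-2)<|a (-2)<|a (-2)<|a 2<|a 2<|a 0<|a 0<|a 0<|a (-2)<|a 2<|a 0<|a 0<|a (-2)<|a (-2)<|a (-2)<|a 2<|a 2<|a 2<|b)<|
 a (a 0<|a 0<|a 2<|a 0<|a (-2)<|a (-2)<|a 2<|a 2<|a 2<|a 2<|a (-2)<|a 0<|a 0<|a 0<|a (-2)<|a 2<|a 0<|a 0<|a (-2)<|a 2<|a (-2)<|a 2<|a (-2)<|a (-2)<|b)<|
 a (a 0<|a 0<|a 2<|a 0<|a (-2)<|a 2<|a 2<|a 2<|a (-2)<|a (-2)<|a (-2)<|a 0<|a 0<|a 0<|a (-2)<|a (-2)<|a 0<|a 0<|a (-2)<|a 2<|a 2<|a (-2)<|a 2<|a 2<|b)<|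
 a (a 0<|a 0<|a 2<|a 0<|a (-2)<|a 2<|a 2<|a (-2)<|a (-2)<|a 2<|a 2<|a 0<|a 0<|a 0<|a 2<|a (-2)<|a 0<|a 0<|a 2<|a 2<|a (-2)<|a (-2)<|a (-2)<|a (-2)<|b)<|
 a (a (-2)<|a 2<|a 0<|a (-2)<|a 0<|a 0<|a 0<|a 0<|a 0<|a 0<|a 0<|a 6<|a 2<|a 2<|a 0<|a 0<|a 2<|a (-2)<|a 0<|a 0<|a 0<|a 0<|a 0<|a 0<|b)<|
 a (a 6<|a 2<|a 0<|a (-2)<|a 0<|a 0<|a 0<|a 0<|a 0<|a 0<|a 0<|a (-2)<|a 2<|a 2<|a 0<|a 0<|a 2<|a (-2)<|a 0<|a 0<|a 0<|a 0<|a 0<|a 0<|b)<|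
 a (a 2<|a (-2)<|a 0<|a 2<|a 0<|a 0<|a 0<|a 0<|a 0<|a 0<|a 0<|a 2<|a (-2)<|a 6<|a 0<|a 0<|a (-2)<|a 2<|a 0<|a 0<|a 0<|a 0<|a 0<|a 0<|b)<|
 a (a 0<|a 0<|a (-2)<|a 0<|a (-2)<|a (-2)<|a 2<|a 2<|a (-2)<|a 2<|a 2<|a 0<|a 0<|a 0<|a 2<|a (-2)<|a 0<|a 0<|a (-2)<|a (-2)<|a 2<|a 2<|a 2<|a (-2)<|b)<|
 a (a 0<|a 0<|a (-2)<|a 0<|a (-2)<|a 2<|a 2<|a (-2)<|a 2<|a 2<|a (-2)<|a 0<|a 0<|a 0<|a (-2)<|a 2<|a 0<|a 0<|a 2<|a (-2)<|a 2<|a (-2)<|a 2<|a (-2)<|b)<|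
 a (a 2<|a (-2)<|a 0<|a 2<|a 0<|a 0<|a 0<|a 0<|a 0<|a 0<|a 0<|a 2<|a (-2)<|a (-2)<|a 0<|a 0<|a 6<|a 2<|a 0<|a 0<|a 0<|a 0<|a 0<|a 0<|b)<|
 a (a (-2)<|a 2<|a 0<|a (-2)<|a 0<|a 0<|a 0<|a 0<|a 0<|a 0<|a 0<|a (-2)<|a 2<|a 2<|a 0<|a 0<|a 2<|a 6<|a 0<|a 0<|a 0<|a 0<|a 0<|a 0<|b)<|
 a (a 0<|a 0<|a (-2)<|a 0<|a (-2)<|a (-2)<|a (-2)<|a 2<|a (-2)<|a 2<|a 2<|a 0<|a 0<|a 0<|a (-2)<|a 2<|a 0<|a 0<|a 2<|a 2<|a 2<|a (-2)<|a (-2)<|a 2<|b)<|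
 a (a 0<|a 0<|a (-2)<|a 0<|a (-2)<|a 2<|a (-2)<|a 2<|a 2<|a (-2)<|a 2<|a 0<|a 0<|a 0<|a (-2)<|a (-2)<|a 0<|a 0<|a 2<|a 2<|a (-2)<|a 2<|a 2<|a (-2)<|b)<|
 a (a 0<|a 0<|a 2<|a 0<|a (-2)<|a 2<|a (-2)<|a 2<|a (-2)<|a (-2)<|a (-2)<|a 0<|a 0<|a 0<|a 2<|a 2<|a 0<|a 0<|a 2<|a (-2)<|a 2<|a 2<|a (-2)<|a (-2)<|b)<|
 a (a 0<|a 0<|a (-2)<|a 0<|a (-2)<|a 2<|a (-2)<|a (-2)<|a 2<|a 2<|a (-2)<|a 0<|a 0<|a 0<|a 2<|a (-2)<|a 0<|a 0<|a (-2)<|a 2<|a 2<|a 2<|a (-2)<|a 2<|b)<|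
 a (a 0<|a 0<|a 2<|a 0<|a 2<|a 2<|a 2<|a 2<|a 2<|a 2<|a 2<|a 0<|a 0<|a 0<|a (-2)<|a (-2)<|a 0<|a 0<|a 2<|a (-2)<|a 2<|a 2<|a (-2)<|a 2<|b)<|
 a (a 0<|a 0<|a 2<|a 0<|a 2<|a 2<|a (-2)<|a 2<|a 2<|a 2<|a 2<|a 0<|a 0<|a 0<|a 2<|a 2<|a 0<|a 0<|a (-2)<|a 2<|a 2<|a (-2)<|a 2<|a (-2)<|b)<|b))

theorem okN9 : Ok N9 (tr N9) := Cfsg.Agent.Co0Q.ok_of (by decide +kernel)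

/-- matrix -/
def N10 : List (List ℤ) := (beta% delta% lq26cb34ddca fun a b =>
 (a (a 8<|a 0<|a 0<|a 0<|a 0<|a 0<|a 0<|a 0<|a 0<|a 0<|a 0<|a 0<|a 0<|a 0<|a 0<|a 0<|a 0<|a 0<|a 0<|a 0<|a 0<|a 0<|a 0<|a 0<|b)<|
 a (a 0<|a 0<|a 0<|a 0<|a 0<|a 0<|a 0<|a 0<|a 0<|a 0<|a 0<|a (-8)<|a 0<|a 0<|a 0<|a 0<|a 0<|a 0<|a 0<|a 0<|a 0<|a 0<|a 0<|a 0<|b)<|
 a (a 0<|a 0<|a 0<|a 0<|a 0<|a 0<|a 0<|a 0<|a 0<|a (-8)<|a 0<|a 0<|a 0<|a 0<|a 0<|a 0<|a 0<|a 0<|a 0<|a 0<|a 0<|a 0<|a 0<|a 0<|b)<|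
 a (a 0<|a 0<|a 0<|a 8<|a 0<|a 0<|a 0<|a 0<|a 0<|a 0<|a 0<|a 0<|a 0<|a 0<|a 0<|a 0<|a 0<|a 0<|a 0<|a 0<|a 0<|a 0<|a 0<|a 0<|b)<|
 a (a 0<|a 0<|a 0<|a 0<|a 0<|a 0<|a 0<|a 0<|a 0<|a 0<|a 0<|a 0<|a 0<|a 0<|a 8<|a 0<|a 0<|a 0<|a 0<|a 0<|a 0<|a 0<|a 0<|a 0<|b)<|
 a (a 0<|a 0<|a 0<|a 0<|a 0<|a (-8)<|a 0<|a 0<|a 0<|a 0<|a 0<|a 0<|a 0<|a 0<|a 0<|a 0<|a 0<|a 0<|a 0<|a 0<|a 0<|a 0<|a 0<|a 0<|b)<|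
 a (a 0<|a 0<|a 0<|a 0<|a 0<|a 0<|a (-8)<|a 0<|a 0<|a 0<|a 0<|a 0<|a 0<|a 0<|a 0<|a 0<|a 0<|a 0<|a 0<|a 0<|a 0<|a 0<|a 0<|a 0<|b)<|
 a (a 0<|a 0<|a 0<|a 0<|a 0<|a 0<|a 0<|a 0<|a 0<|a 0<|a 0<|a 0<|a 0<|a 0<|a 0<|a 0<|a 0<|a 0<|a 0<|a 0<|a 0<|a 0<|a 0<|a (-8)<|b)<|
 a (a 0<|a 0<|a 0<|a 0<|a 0<|a 0<|a 0<|a 0<|a 0<|a 0<|a 0<|a 0<|a 0<|a 0<|a 0<|a 0<|a 0<|a 0<|a 0<|a 8<|a 0<|a 0<|a 0<|a 0<|b)<|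
 a (a 0<|a 0<|a (-8)<|a 0<|a 0<|a 0<|a 0<|a 0<|a 0<|a 0<|a 0<|a 0<|a 0<|a 0<|a 0<|a 0<|a 0<|a 0<|a 0<|a 0<|a 0<|a 0<|a 0<|a 0<|b)<|
 a (a 0<|a 0<|a 0<|a 0<|a 0<|a 0<|a 0<|a 0<|a 0<|a 0<|a (-8)<|a 0<|a 0<|a 0<|a 0<|a 0<|a 0<|a 0<|a 0<|a 0<|a 0<|a 0<|a 0<|a 0<|b)<|
 a (a 0<|a (-8)<|a 0<|a 0<|a 0<|a 0<|a 0<|a 0<|a 0<|a 0<|a 0<|a 0<|a 0<|a 0<|a 0<|a 0<|a 0<|a 0<|a 0<|a 0<|a 0<|a 0<|a 0<|a 0<|b)<|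
 a (a 0<|a 0<|a 0<|a 0<|a 0<|a 0<|a 0<|a 0<|a 0<|a 0<|a 0<|a 0<|a 8<|a 0<|a 0<|a 0<|a 0<|a 0<|a 0<|a 0<|a 0<|a 0<|a 0<|a 0<|b)<|
 a (a 0<|a 0<|a 0<|a 0<|a 0<|a 0<|a 0<|a 0<|a 0<|a 0<|a 0<|a 0<|a 0<|a 0<|a 0<|a 0<|a 8<|a 0<|a 0<|a 0<|a 0<|a 0<|a 0<|a 0<|b)<|
 a (a 0<|a 0<|a 0<|a 0<|a 8<|a 0<|a 0<|a 0<|a 0<|a 0<|a 0<|a 0<|a 0<|a 0<|a 0<|a 0<|a 0<|a 0<|a 0<|a 0<|a 0<|a 0<|a 0<|a 0<|b)<|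
 a (a 0<|a 0<|a 0<|a 0<|a 0<|a 0<|a 0<|a 0<|a 0<|a 0<|a 0<|a 0<|a 0<|a 0<|a 0<|a 0<|a 0<|a 0<|a 8<|a 0<|a 0<|a 0<|a 0<|a 0<|b)<|
 a (a 0<|a 0<|a 0<|a 0<|a 0<|a 0<|a 0<|a 0<|a 0<|a 0<|a 0<|a 0<|a 0<|a 8<|a 0<|a 0<|a 0<|a 0<|a 0<|a 0<|a 0<|a 0<|a 0<|a 0<|b)<|
 a (a 0<|a 0<|a 0<|a 0<|a 0<|a 0<|a 0<|a 0<|a 0<|a 0<|a 0<|a 0<|a 0<|a 0<|a 0<|a 0<|a 0<|a 8<|a 0<|a 0<|a 0<|a 0<|a 0<|a 0<|b)<|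
 a (a 0<|a 0<|a 0<|a 0<|a 0<|a 0<|a 0<|a 0<|a 0<|a 0<|a 0<|a 0<|a 0<|a 0<|a 0<|a 8<|a 0<|a 0<|a 0<|a 0<|a 0<|a 0<|a 0<|a 0<|b)<|
 a (a 0<|a 0<|a 0<|a 0<|a 0<|a 0<|a 0<|a 0<|a 8<|a 0<|a 0<|a 0<|a 0<|a 0<|a 0<|a 0<|a 0<|a 0<|a 0<|a 0<|a 0<|a 0<|a 0<|a 0<|b)<|
 a (a 0<|a 0<|a 0<|a 0<|a 0<|a 0<|a 0<|a 0<|a 0<|a 0<|a 0<|a 0<|a 0<|a 0<|a 0<|a 0<|a 0<|a 0<|a 0<|a 0<|a 0<|a (-8)<|a 0<|a 0<|b)<|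
 a (a 0<|a 0<|a 0<|a 0<|a 0<|a 0<|a 0<|a 0<|a 0<|a 0<|a 0<|a 0<|a 0<|a 0<|a 0<|a 0<|a 0<|a 0<|a 0<|a 0<|a (-8)<|a 0<|a 0<|a 0<|b)<|
 a (a 0<|a 0<|a 0<|a 0<|a 0<|a 0<|a 0<|a 0<|a 0<|a 0<|a 0<|a 0<|a 0<|a 0<|a 0<|a 0<|a 0<|a 0<|a 0<|a 0<|a 0<|a 0<|a (-8)<|a 0<|b)<|
 a (a 0<|a 0<|a 0<|a 0<|a 0<|a 0<|a 0<|a (-8)<|a 0<|a 0<|a 0<|a 0<|a 0<|a 0<|a 0<|a 0<|a 0<|a 0<|a 0<|a 0<|a 0<|a 0<|a 0<|a 0<|b)<|b))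

theorem okN10 : Ok N10 (tr N10) := Cfsg.Agent.Co0Q.ok_of (by decide +kernel)

end Cfsg.Agent.H956.Co1P
end

-- part: H956/Co1P/MatC
section
/-!
# Explicit elements of `Co0` (helper956; generated)
-/

set_option autoImplicit false
set_option maxRecDepth 20000

namespace Cfsg.Agent.H956.Co1P

open Cfsg.Agent.LThreeCo1.Ev Cfsg.Agent.SporadicStructure.Co0Matrix Cfsg.Agent.CoOneType.CoEval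

/-- matrix -/
def N11 : List (List ℤ) := (beta% delta% lq26cb34ddca fun a b =>
 (a (a 0<|a 0<|a 0<|a 0<|a 0<|a 0<|a 0<|a 0<|a 0<|a 0<|a 0<|a 0<|a 8<|a 0<|a 0<|a 0<|a 0<|a 0<|a 0<|a 0<|a 0<|a 0<|a 0<|a 0<|b)<|
 a (a 0<|a 8<|a 0<|a 0<|a 0<|a 0<|a 0<|a 0<|a 0<|a 0<|a 0<|a 0<|a 0<|a 0<|a 0<|a 0<|a 0<|a 0<|a 0<|a 0<|a 0<|a 0<|a 0<|a 0<|b)<|
 a (a 0<|a 0<|a 0<|a 0<|a 0<|a 0<|a 0<|a 8<|a 0<|a 0<|a 0<|a 0<|a 0<|a 0<|a 0<|a 0<|a 0<|a 0<|a 0<|a 0<|a 0<|a 0<|a 0<|a 0<|b)<|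
 a (a 0<|a 0<|a 0<|a 8<|a 0<|a 0<|a 0<|a 0<|a 0<|a 0<|a 0<|a 0<|a 0<|a 0<|a 0<|a 0<|a 0<|a 0<|a 0<|a 0<|a 0<|a 0<|a 0<|a 0<|b)<|
 a (a 0<|a 0<|a 0<|a 0<|a 8<|a 0<|a 0<|a 0<|a 0<|a 0<|a 0<|a 0<|a 0<|a 0<|a 0<|a 0<|a 0<|a 0<|a 0<|a 0<|a 0<|a 0<|a 0<|a 0<|b)<|
 a (a 0<|a 0<|a 0<|a 0<|a 0<|a 0<|a 0<|a 0<|a 0<|a 0<|a 0<|a 0<|a 0<|a 0<|a 0<|a 0<|a 0<|a 0<|a 0<|a 0<|a 0<|a 0<|a 8<|a 0<|b)<|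
 a (a 0<|a 0<|a 0<|a 0<|a 0<|a 0<|a 8<|a 0<|a 0<|a 0<|a 0<|a 0<|a 0<|a 0<|a 0<|a 0<|a 0<|a 0<|a 0<|a 0<|a 0<|a 0<|a 0<|a 0<|b)<|
 a (a 0<|a 0<|a 8<|a 0<|a 0<|a 0<|a 0<|a 0<|a 0<|a 0<|a 0<|a 0<|a 0<|a 0<|a 0<|a 0<|a 0<|a 0<|a 0<|a 0<|a 0<|a 0<|a 0<|a 0<|b)<|
 a (a 0<|a 0<|a 0<|a 0<|a 0<|a 0<|a 0<|a 0<|a 0<|a 0<|a 0<|a 0<|a 0<|a 0<|a 0<|a 8<|a 0<|a 0<|a 0<|a 0<|a 0<|a 0<|a 0<|a 0<|b)<|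
 a (a 0<|a 0<|a 0<|a 0<|a 0<|a 0<|a 0<|a 0<|a 0<|a 0<|a 0<|a 0<|a 0<|a 0<|a 0<|a 0<|a 0<|a 0<|a 0<|a 0<|a 0<|a 0<|a 0<|a 8<|b)<|
 a (a 0<|a 0<|a 0<|a 0<|a 0<|a 0<|a 0<|a 0<|a 0<|a 0<|a 8<|a 0<|a 0<|a 0<|a 0<|a 0<|a 0<|a 0<|a 0<|a 0<|a 0<|a 0<|a 0<|a 0<|b)<|
 a (a 0<|a 0<|a 0<|a 0<|a 0<|a 0<|a 0<|a 0<|a 0<|a 0<|a 0<|a 8<|a 0<|a 0<|a 0<|a 0<|a 0<|a 0<|a 0<|a 0<|a 0<|a 0<|a 0<|a 0<|b)<|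
 a (a 8<|a 0<|a 0<|a 0<|a 0<|a 0<|a 0<|a 0<|a 0<|a 0<|a 0<|a 0<|a 0<|a 0<|a 0<|a 0<|a 0<|a 0<|a 0<|a 0<|a 0<|a 0<|a 0<|a 0<|b)<|
 a (a 0<|a 0<|a 0<|a 0<|a 0<|a 0<|a 0<|a 0<|a 0<|a 0<|a 0<|a 0<|a 0<|a 0<|a 0<|a 0<|a 8<|a 0<|a 0<|a 0<|a 0<|a 0<|a 0<|a 0<|b)<|
 a (a 0<|a 0<|a 0<|a 0<|a 0<|a 0<|a 0<|a 0<|a 0<|a 0<|a 0<|a 0<|a 0<|a 0<|a 8<|a 0<|a 0<|a 0<|a 0<|a 0<|a 0<|a 0<|a 0<|a 0<|b)<|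
 a (a 0<|a 0<|a 0<|a 0<|a 0<|a 0<|a 0<|a 0<|a 8<|a 0<|a 0<|a 0<|a 0<|a 0<|a 0<|a 0<|a 0<|a 0<|a 0<|a 0<|a 0<|a 0<|a 0<|a 0<|b)<|
 a (a 0<|a 0<|a 0<|a 0<|a 0<|a 0<|a 0<|a 0<|a 0<|a 0<|a 0<|a 0<|a 0<|a 8<|a 0<|a 0<|a 0<|a 0<|a 0<|a 0<|a 0<|a 0<|a 0<|a 0<|b)<|
 a (a 0<|a 0<|a 0<|a 0<|a 0<|a 0<|a 0<|a 0<|a 0<|a 0<|a 0<|a 0<|a 0<|a 0<|a 0<|a 0<|a 0<|a 8<|a 0<|a 0<|a 0<|a 0<|a 0<|a 0<|b)<|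
 a (a 0<|a 0<|a 0<|a 0<|a 0<|a 0<|a 0<|a 0<|a 0<|a 0<|a 0<|a 0<|a 0<|a 0<|a 0<|a 0<|a 0<|a 0<|a 0<|a 8<|a 0<|a 0<|a 0<|a 0<|b)<|
 a (a 0<|a 0<|a 0<|a 0<|a 0<|a 0<|a 0<|a 0<|a 0<|a 0<|a 0<|a 0<|a 0<|a 0<|a 0<|a 0<|a 0<|a 0<|a 8<|a 0<|a 0<|a 0<|a 0<|a 0<|b)<|
 a (a 0<|a 0<|a 0<|a 0<|a 0<|a 0<|a 0<|a 0<|a 0<|a 0<|a 0<|a 0<|a 0<|a 0<|a 0<|a 0<|a 0<|a 0<|a 0<|a 0<|a 0<|a 8<|a 0<|a 0<|b)<|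
 a (a 0<|a 0<|a 0<|a 0<|a 0<|a 0<|a 0<|a 0<|a 0<|a 0<|a 0<|a 0<|a 0<|a 0<|a 0<|a 0<|a 0<|a 0<|a 0<|a 0<|a 8<|a 0<|a 0<|a 0<|b)<|
 a (a 0<|a 0<|a 0<|a 0<|a 0<|a 8<|a 0<|a 0<|a 0<|a 0<|a 0<|a 0<|a 0<|a 0<|a 0<|a 0<|a 0<|a 0<|a 0<|a 0<|a 0<|a 0<|a 0<|a 0<|b)<|
 a (a 0<|a 0<|a 0<|a 0<|a 0<|a 0<|a 0<|a 0<|a 0<|a 8<|a 0<|a 0<|a 0<|a 0<|a 0<|a 0<|a 0<|a 0<|a 0<|a 0<|a 0<|a 0<|a 0<|a 0<|b)<|b))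

theorem okN11 : Ok N11 (tr N11) := Cfsg.Agent.Co0Q.ok_of (by decide +kernel)

/-- matrix -/
def N12 : List (List ℤ) := (beta% delta% lq26cb34ddca fun a b =>
 (a (a (-8)<|a 0<|a 0<|a 0<|a 0<|a 0<|a 0<|a 0<|a 0<|a 0<|a 0<|a 0<|a 0<|a 0<|a 0<|a 0<|a 0<|a 0<|a 0<|a 0<|a 0<|a 0<|a 0<|a 0<|b)<|
 a (a 0<|a 8<|a 0<|a 0<|a 0<|a 0<|a 0<|a 0<|a 0<|a 0<|a 0<|a 0<|a 0<|a 0<|a 0<|a 0<|a 0<|a 0<|a 0<|a 0<|a 0<|a 0<|a 0<|a 0<|b)<|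
 a (a 0<|a 0<|a (-8)<|a 0<|a 0<|a 0<|a 0<|a 0<|a 0<|a 0<|a 0<|a 0<|a 0<|a 0<|a 0<|a 0<|a 0<|a 0<|a 0<|a 0<|a 0<|a 0<|a 0<|a 0<|b)<|
 a (a 0<|a 0<|a 0<|a 8<|a 0<|a 0<|a 0<|a 0<|a 0<|a 0<|a 0<|a 0<|a 0<|a 0<|a 0<|a 0<|a 0<|a 0<|a 0<|a 0<|a 0<|a 0<|a 0<|a 0<|b)<|
 a (a 0<|a 0<|a 0<|a 0<|a 8<|a 0<|a 0<|a 0<|a 0<|a 0<|a 0<|a 0<|a 0<|a 0<|a 0<|a 0<|a 0<|a 0<|a 0<|a 0<|a 0<|a 0<|a 0<|a 0<|b)<|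
 a (a 0<|a 0<|a 0<|a 0<|a 0<|a (-8)<|a 0<|a 0<|a 0<|a 0<|a 0<|a 0<|a 0<|a 0<|a 0<|a 0<|a 0<|a 0<|a 0<|a 0<|a 0<|a 0<|a 0<|a 0<|b)<|
 a (a 0<|a 0<|a 0<|a 0<|a 0<|a 0<|a 8<|a 0<|a 0<|a 0<|a 0<|a 0<|a 0<|a 0<|a 0<|a 0<|a 0<|a 0<|a 0<|a 0<|a 0<|a 0<|a 0<|a 0<|b)<|
 a (a 0<|a 0<|a 0<|a 0<|a 0<|a 0<|a 0<|a (-8)<|a 0<|a 0<|a 0<|a 0<|a 0<|a 0<|a 0<|a 0<|a 0<|a 0<|a 0<|a 0<|a 0<|a 0<|a 0<|a 0<|b)<|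
 a (a 0<|a 0<|a 0<|a 0<|a 0<|a 0<|a 0<|a 0<|a 8<|a 0<|a 0<|a 0<|a 0<|a 0<|a 0<|a 0<|a 0<|a 0<|a 0<|a 0<|a 0<|a 0<|a 0<|a 0<|b)<|
 a (a 0<|a 0<|a 0<|a 0<|a 0<|a 0<|a 0<|a 0<|a 0<|a (-8)<|a 0<|a 0<|a 0<|a 0<|a 0<|a 0<|a 0<|a 0<|a 0<|a 0<|a 0<|a 0<|a 0<|a 0<|b)<|
 a (a 0<|a 0<|a 0<|a 0<|a 0<|a 0<|a 0<|a 0<|a 0<|a 0<|a 8<|a 0<|a 0<|a 0<|a 0<|a 0<|a 0<|a 0<|a 0<|a 0<|a 0<|a 0<|a 0<|a 0<|b)<|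
 a (a 0<|a 0<|a 0<|a 0<|a 0<|a 0<|a 0<|a 0<|a 0<|a 0<|a 0<|a 8<|a 0<|a 0<|a 0<|a 0<|a 0<|a 0<|a 0<|a 0<|a 0<|a 0<|a 0<|a 0<|b)<|
 a (a 0<|a 0<|a 0<|a 0<|a 0<|a 0<|a 0<|a 0<|a 0<|a 0<|a 0<|a 0<|a (-8)<|a 0<|a 0<|a 0<|a 0<|a 0<|a 0<|a 0<|a 0<|a 0<|a 0<|a 0<|b)<|
 a (a 0<|a 0<|a 0<|a 0<|a 0<|a 0<|a 0<|a 0<|a 0<|a 0<|a 0<|a 0<|a 0<|a 8<|a 0<|a 0<|a 0<|a 0<|a 0<|a 0<|a 0<|a 0<|a 0<|a 0<|b)<|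
 a (a 0<|a 0<|a 0<|a 0<|a 0<|a 0<|a 0<|a 0<|a 0<|a 0<|a 0<|a 0<|a 0<|a 0<|a 8<|a 0<|a 0<|a 0<|a 0<|a 0<|a 0<|a 0<|a 0<|a 0<|b)<|
 a (a 0<|a 0<|a 0<|a 0<|a 0<|a 0<|a 0<|a 0<|a 0<|a 0<|a 0<|a 0<|a 0<|a 0<|a 0<|a 8<|a 0<|a 0<|a 0<|a 0<|a 0<|a 0<|a 0<|a 0<|b)<|
 a (a 0<|a 0<|a 0<|a 0<|a 0<|a 0<|a 0<|a 0<|a 0<|a 0<|a 0<|a 0<|a 0<|a 0<|a 0<|a 0<|a 8<|a 0<|a 0<|a 0<|a 0<|a 0<|a 0<|a 0<|b)<|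
 a (a 0<|a 0<|a 0<|a 0<|a 0<|a 0<|a 0<|a 0<|a 0<|a 0<|a 0<|a 0<|a 0<|a 0<|a 0<|a 0<|a 0<|a 8<|a 0<|a 0<|a 0<|a 0<|a 0<|a 0<|b)<|
 a (a 0<|a 0<|a 0<|a 0<|a 0<|a 0<|a 0<|a 0<|a 0<|a 0<|a 0<|a 0<|a 0<|a 0<|a 0<|a 0<|a 0<|a 0<|a 8<|a 0<|a 0<|a 0<|a 0<|a 0<|b)<|
 a (a 0<|a 0<|a 0<|a 0<|a 0<|a 0<|a 0<|a 0<|a 0<|a 0<|a 0<|a 0<|a 0<|a 0<|a 0<|a 0<|a 0<|a 0<|a 0<|a 8<|a 0<|a 0<|a 0<|a 0<|b)<|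
 a (a 0<|a 0<|a 0<|a 0<|a 0<|a 0<|a 0<|a 0<|a 0<|a 0<|a 0<|a 0<|a 0<|a 0<|a 0<|a 0<|a 0<|a 0<|a 0<|a 0<|a 8<|a 0<|a 0<|a 0<|b)<|
 a (a 0<|a 0<|a 0<|a 0<|a 0<|a 0<|a 0<|a 0<|a 0<|a 0<|a 0<|a 0<|a 0<|a 0<|a 0<|a 0<|a 0<|a 0<|a 0<|a 0<|a 0<|a 8<|a 0<|a 0<|b)<|
 a (a 0<|a 0<|a 0<|a 0<|a 0<|a 0<|a 0<|a 0<|a 0<|a 0<|a 0<|a 0<|a 0<|a 0<|a 0<|a 0<|a 0<|a 0<|a 0<|a 0<|a 0<|a 0<|a (-8)<|a 0<|b)<|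
 a (a 0<|a 0<|a 0<|a 0<|a 0<|a 0<|a 0<|a 0<|a 0<|a 0<|a 0<|a 0<|a 0<|a 0<|a 0<|a 0<|a 0<|a 0<|a 0<|a 0<|a 0<|a 0<|a 0<|a (-8)<|b)<|b))

theorem okN12 : Ok N12 (tr N12) := Cfsg.Agent.Co0Q.ok_of (by decide +kernel)

/-- matrix -/
def N13 : List (List ℤ) := (beta% delta% lq26cb34ddca fun a b =>
 (a (a 0<|a 0<|a 0<|a 0<|a 0<|a 0<|a 0<|a 0<|a 0<|a 0<|a 0<|a 0<|a 8<|a 0<|a 0<|a 0<|a 0<|a 0<|a 0<|a 0<|a 0<|a 0<|a 0<|a 0<|b)<|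
 a (a 0<|a (-8)<|a 0<|a 0<|a 0<|a 0<|a 0<|a 0<|a 0<|a 0<|a 0<|a 0<|a 0<|a 0<|a 0<|a 0<|a 0<|a 0<|a 0<|a 0<|a 0<|a 0<|a 0<|a 0<|b)<|
 a (a 0<|a 0<|a 0<|a 0<|a 0<|a 0<|a 0<|a 8<|a 0<|a 0<|a 0<|a 0<|a 0<|a 0<|a 0<|a 0<|a 0<|a 0<|a 0<|a 0<|a 0<|a 0<|a 0<|a 0<|b)<|
 a (a 0<|a 0<|a 0<|a (-8)<|a 0<|a 0<|a 0<|a 0<|a 0<|a 0<|a 0<|a 0<|a 0<|a 0<|a 0<|a 0<|a 0<|a 0<|a 0<|a 0<|a 0<|a 0<|a 0<|a 0<|b)<|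
 a (a 0<|a 0<|a 0<|a 0<|a 8<|a 0<|a 0<|a 0<|a 0<|a 0<|a 0<|a 0<|a 0<|a 0<|a 0<|a 0<|a 0<|a 0<|a 0<|a 0<|a 0<|a 0<|a 0<|a 0<|b)<|
 a (a 0<|a 0<|a 0<|a 0<|a 0<|a 0<|a 0<|a 0<|a 0<|a 0<|a 0<|a 0<|a 0<|a 0<|a 0<|a 0<|a 0<|a 0<|a 0<|a 0<|a 0<|a 0<|a (-8)<|a 0<|b)<|
 a (a 0<|a 0<|a 0<|a 0<|a 0<|a 0<|a (-8)<|a 0<|a 0<|a 0<|a 0<|a 0<|a 0<|a 0<|a 0<|a 0<|a 0<|a 0<|a 0<|a 0<|a 0<|a 0<|a 0<|a 0<|b)<|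
 a (a 0<|a 0<|a (-8)<|a 0<|a 0<|a 0<|a 0<|a 0<|a 0<|a 0<|a 0<|a 0<|a 0<|a 0<|a 0<|a 0<|a 0<|a 0<|a 0<|a 0<|a 0<|a 0<|a 0<|a 0<|b)<|
 a (a 0<|a 0<|a 0<|a 0<|a 0<|a 0<|a 0<|a 0<|a 0<|a 0<|a 0<|a 0<|a 0<|a 0<|a 0<|a 8<|a 0<|a 0<|a 0<|a 0<|a 0<|a 0<|a 0<|a 0<|b)<|
 a (a 0<|a 0<|a 0<|a 0<|a 0<|a 0<|a 0<|a 0<|a 0<|a 0<|a 0<|a 0<|a 0<|a 0<|a 0<|a 0<|a 0<|a 0<|a 0<|a 0<|a 0<|a 0<|a 0<|a 8<|b)<|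
 a (a 0<|a 0<|a 0<|a 0<|a 0<|a 0<|a 0<|a 0<|a 0<|a 0<|a 8<|a 0<|a 0<|a 0<|a 0<|a 0<|a 0<|a 0<|a 0<|a 0<|a 0<|a 0<|a 0<|a 0<|b)<|
 a (a 0<|a 0<|a 0<|a 0<|a 0<|a 0<|a 0<|a 0<|a 0<|a 0<|a 0<|a (-8)<|a 0<|a 0<|a 0<|a 0<|a 0<|a 0<|a 0<|a 0<|a 0<|a 0<|a 0<|a 0<|b)<|
 a (a (-8)<|a 0<|a 0<|a 0<|a 0<|a 0<|a 0<|a 0<|a 0<|a 0<|a 0<|a 0<|a 0<|a 0<|a 0<|a 0<|a 0<|a 0<|a 0<|a 0<|a 0<|a 0<|a 0<|a 0<|b)<|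
 a (a 0<|a 0<|a 0<|a 0<|a 0<|a 0<|a 0<|a 0<|a 0<|a 0<|a 0<|a 0<|a 0<|a 0<|a 0<|a 0<|a 8<|a 0<|a 0<|a 0<|a 0<|a 0<|a 0<|a 0<|b)<|
 a (a 0<|a 0<|a 0<|a 0<|a 0<|a 0<|a 0<|a 0<|a 0<|a 0<|a 0<|a 0<|a 0<|a 0<|a 8<|a 0<|a 0<|a 0<|a 0<|a 0<|a 0<|a 0<|a 0<|a 0<|b)<|
 a (a 0<|a 0<|a 0<|a 0<|a 0<|a 0<|a 0<|a 0<|a 8<|a 0<|a 0<|a 0<|a 0<|a 0<|a 0<|a 0<|a 0<|a 0<|a 0<|a 0<|a 0<|a 0<|a 0<|a 0<|b)<|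
 a (a 0<|a 0<|a 0<|a 0<|a 0<|a 0<|a 0<|a 0<|a 0<|a 0<|a 0<|a 0<|a 0<|a 8<|a 0<|a 0<|a 0<|a 0<|a 0<|a 0<|a 0<|a 0<|a 0<|a 0<|b)<|
 a (a 0<|a 0<|a 0<|a 0<|a 0<|a 0<|a 0<|a 0<|a 0<|a 0<|a 0<|a 0<|a 0<|a 0<|a 0<|a 0<|a 0<|a 8<|a 0<|a 0<|a 0<|a 0<|a 0<|a 0<|b)<|
 a (a 0<|a 0<|a 0<|a 0<|a 0<|a 0<|a 0<|a 0<|a 0<|a 0<|a 0<|a 0<|a 0<|a 0<|a 0<|a 0<|a 0<|a 0<|a 0<|a 8<|a 0<|a 0<|a 0<|a 0<|b)<|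
 a (a 0<|a 0<|a 0<|a 0<|a 0<|a 0<|a 0<|a 0<|a 0<|a 0<|a 0<|a 0<|a 0<|a 0<|a 0<|a 0<|a 0<|a 0<|a 8<|a 0<|a 0<|a 0<|a 0<|a 0<|b)<|
 a (a 0<|a 0<|a 0<|a 0<|a 0<|a 0<|a 0<|a 0<|a 0<|a 0<|a 0<|a 0<|a 0<|a 0<|a 0<|a 0<|a 0<|a 0<|a 0<|a 0<|a 0<|a 8<|a 0<|a 0<|b)<|
 a (a 0<|a 0<|a 0<|a 0<|a 0<|a 0<|a 0<|a 0<|a 0<|a 0<|a 0<|a 0<|a 0<|a 0<|a 0<|a 0<|a 0<|a 0<|a 0<|a 0<|a 8<|a 0<|a 0<|a 0<|b)<|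
 a (a 0<|a 0<|a 0<|a 0<|a 0<|a 8<|a 0<|a 0<|a 0<|a 0<|a 0<|a 0<|a 0<|a 0<|a 0<|a 0<|a 0<|a 0<|a 0<|a 0<|a 0<|a 0<|a 0<|a 0<|b)<|
 a (a 0<|a 0<|a 0<|a 0<|a 0<|a 0<|a 0<|a 0<|a 0<|a (-8)<|a 0<|a 0<|a 0<|a 0<|a 0<|a 0<|a 0<|a 0<|a 0<|a 0<|a 0<|a 0<|a 0<|a 0<|b)<|b))

theorem okN13 : Ok N13 (tr N13) := Cfsg.Agent.Co0Q.ok_of (by decide +kernel)

/-- matrix -/
def N14 : List (List ℤ) := (beta% delta% lq26cb34ddca fun a b =>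
 (a (a 4<|a 0<|a 0<|a 0<|a 0<|a 0<|a 0<|a 0<|a 0<|a 0<|a 0<|a 0<|a 4<|a 0<|a 0<|a 0<|a 0<|a 0<|a 0<|a 0<|a (-4)<|a 4<|a 0<|a 0<|b)<|
 a (a 0<|a 4<|a 0<|a 0<|a 0<|a 0<|a (-4)<|a 0<|a 0<|a 0<|a (-4)<|a (-4)<|a 0<|a 0<|a 0<|a 0<|a 0<|a 0<|a 0<|a 0<|a 0<|a 0<|a 0<|a 0<|b)<|
 a (a 0<|a 0<|a (-4)<|a 0<|a 0<|a 0<|a 0<|a (-4)<|a 4<|a 0<|a 0<|a 0<|a 0<|a 0<|a 0<|a (-4)<|a 0<|a 0<|a 0<|a 0<|a 0<|a 0<|a 0<|a 0<|b)<|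
 a (a 0<|a 0<|a 0<|a 4<|a (-4)<|a 0<|a 0<|a 0<|a 0<|a 0<|a 0<|a 0<|a 0<|a 0<|a (-4)<|a 0<|a 0<|a (-4)<|a 0<|a 0<|a 0<|a 0<|a 0<|a 0<|b)<|
 a (a 0<|a 0<|a 0<|a (-4)<|a 4<|a 0<|a 0<|a 0<|a 0<|a 0<|a 0<|a 0<|a 0<|a 0<|a (-4)<|a 0<|a 0<|a (-4)<|a 0<|a 0<|a 0<|a 0<|a 0<|a 0<|b)<|
 a (a 0<|a 0<|a 0<|a 0<|a 0<|a (-4)<|a 0<|a 0<|a 0<|a 0<|a 0<|a 0<|a 0<|a 4<|a 0<|a 0<|a (-4)<|a 0<|a 0<|a 0<|a 0<|a 0<|a (-4)<|a 0<|b)<|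
 a (a 0<|a (-4)<|a 0<|a 0<|a 0<|a 0<|a 4<|a 0<|a 0<|a 0<|a (-4)<|a (-4)<|a 0<|a 0<|a 0<|a 0<|a 0<|a 0<|a 0<|a 0<|a 0<|a 0<|a 0<|a 0<|b)<|
 a (a 0<|a 0<|a (-4)<|a 0<|a 0<|a 0<|a 0<|a (-4)<|a (-4)<|a 0<|a 0<|a 0<|a 0<|a 0<|a 0<|a 4<|a 0<|a 0<|a 0<|a 0<|a 0<|a 0<|a 0<|a 0<|b)<|
 a (a 0<|a 0<|a (-4)<|a 0<|a 0<|a 0<|a 0<|a 4<|a 4<|a 0<|a 0<|a 0<|a 0<|a 0<|a 0<|a 4<|a 0<|a 0<|a 0<|a 0<|a 0<|a 0<|a 0<|a 0<|b)<|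
 a (a 0<|a 0<|a 0<|a 0<|a 0<|a 0<|a 0<|a 0<|a 0<|a (-4)<|a 0<|a 0<|a 0<|a 0<|a 0<|a 0<|a 0<|a 0<|a 4<|a (-4)<|a 0<|a 0<|a 0<|a (-4)<|b)<|
 a (a 0<|a (-4)<|a 0<|a 0<|a 0<|a 0<|a (-4)<|a 0<|a 0<|a 0<|a 4<|a (-4)<|a 0<|a 0<|a 0<|a 0<|a 0<|a 0<|a 0<|a 0<|a 0<|a 0<|a 0<|a 0<|b)<|
 a (a 0<|a (-4)<|a 0<|a 0<|a 0<|a 0<|a (-4)<|a 0<|a 0<|a 0<|a (-4)<|a 4<|a 0<|a 0<|a 0<|a 0<|a 0<|a 0<|a 0<|a 0<|a 0<|a 0<|a 0<|a 0<|b)<|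
 a (a 4<|a 0<|a 0<|a 0<|a 0<|a 0<|a 0<|a 0<|a 0<|a 0<|a 0<|a 0<|a 4<|a 0<|a 0<|a 0<|a 0<|a 0<|a 0<|a 0<|a 4<|a (-4)<|a 0<|a 0<|b)<|
 a (a 0<|a 0<|a 0<|a 0<|a 0<|a (-4)<|a 0<|a 0<|a 0<|a 0<|a 0<|a 0<|a 0<|a 4<|a 0<|a 0<|a 4<|a 0<|a 0<|a 0<|a 0<|a 0<|a 4<|a 0<|b)<|
 a (a 0<|a 0<|a 0<|a (-4)<|a (-4)<|a 0<|a 0<|a 0<|a 0<|a 0<|a 0<|a 0<|a 0<|a 0<|a 4<|a 0<|a 0<|a (-4)<|a 0<|a 0<|a 0<|a 0<|a 0<|a 0<|b)<|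
 a (a 0<|a 0<|a 4<|a 0<|a 0<|a 0<|a 0<|a (-4)<|a 4<|a 0<|a 0<|a 0<|a 0<|a 0<|a 0<|a 4<|a 0<|a 0<|a 0<|a 0<|a 0<|a 0<|a 0<|a 0<|b)<|
 a (a 0<|a 0<|a 0<|a 0<|a 0<|a 4<|a 0<|a 0<|a 0<|a 0<|a 0<|a 0<|a 0<|a 4<|a 0<|a 0<|a 4<|a 0<|a 0<|a 0<|a 0<|a 0<|a (-4)<|a 0<|b)<|
 a (a 0<|a 0<|a 0<|a (-4)<|a (-4)<|a 0<|a 0<|a 0<|a 0<|a 0<|a 0<|a 0<|a 0<|a 0<|a (-4)<|a 0<|a 0<|a 4<|a 0<|a 0<|a 0<|a 0<|a 0<|a 0<|b)<|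
 a (a 0<|a 0<|a 0<|a 0<|a 0<|a 0<|a 0<|a 0<|a 0<|a (-4)<|a 0<|a 0<|a 0<|a 0<|a 0<|a 0<|a 0<|a 0<|a 4<|a 4<|a 0<|a 0<|a 0<|a 4<|b)<|
 a (a 0<|a 0<|a 0<|a 0<|a 0<|a 0<|a 0<|a 0<|a 0<|a 4<|a 0<|a 0<|a 0<|a 0<|a 0<|a 0<|a 0<|a 0<|a 4<|a 4<|a 0<|a 0<|a 0<|a (-4)<|b)<|
 a (a 4<|a 0<|a 0<|a 0<|a 0<|a 0<|a 0<|a 0<|a 0<|a 0<|a 0<|a 0<|a (-4)<|a 0<|a 0<|a 0<|a 0<|a 0<|a 0<|a 0<|a (-4)<|a (-4)<|a 0<|a 0<|b)<|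
 a (a (-4)<|a 0<|a 0<|a 0<|a 0<|a 0<|a 0<|a 0<|a 0<|a 0<|a 0<|a 0<|a 4<|a 0<|a 0<|a 0<|a 0<|a 0<|a 0<|a 0<|a (-4)<|a (-4)<|a 0<|a 0<|b)<|
 a (a 0<|a 0<|a 0<|a 0<|a 0<|a (-4)<|a 0<|a 0<|a 0<|a 0<|a 0<|a 0<|a 0<|a (-4)<|a 0<|a 0<|a 4<|a 0<|a 0<|a 0<|a 0<|a 0<|a (-4)<|a 0<|b)<|
 a (a 0<|a 0<|a 0<|a 0<|a 0<|a 0<|a 0<|a 0<|a 0<|a (-4)<|a 0<|a 0<|a 0<|a 0<|a 0<|a 0<|a 0<|a 0<|a (-4)<|a 4<|a 0<|a 0<|a 0<|a (-4)<|b)<|b))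

theorem okN14 : Ok N14 (tr N14) := Cfsg.Agent.Co0Q.ok_of (by decide +kernel)

/-- matrix -/
def N15 : List (List ℤ) := (beta% delta% lq26cb34ddca fun a b =>
 (a (a (-8)<|a 0<|a 0<|a 0<|a 0<|a 0<|a 0<|a 0<|a 0<|a 0<|a 0<|a 0<|a 0<|a 0<|a 0<|a 0<|a 0<|a 0<|a 0<|a 0<|a 0<|a 0<|a 0<|a 0<|b)<|
 a (a 0<|a 0<|a 0<|a 0<|a 0<|a 0<|a 0<|a 0<|a 0<|a 0<|a 0<|a 8<|a 0<|a 0<|a 0<|a 0<|a 0<|a 0<|a 0<|a 0<|a 0<|a 0<|a 0<|a 0<|b)<|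
 a (a 0<|a 0<|a (-8)<|a 0<|a 0<|a 0<|a 0<|a 0<|a 0<|a 0<|a 0<|a 0<|a 0<|a 0<|a 0<|a 0<|a 0<|a 0<|a 0<|a 0<|a 0<|a 0<|a 0<|a 0<|b)<|
 a (a 0<|a 0<|a 0<|a 0<|a 0<|a 0<|a (-8)<|a 0<|a 0<|a 0<|a 0<|a 0<|a 0<|a 0<|a 0<|a 0<|a 0<|a 0<|a 0<|a 0<|a 0<|a 0<|a 0<|a 0<|b)<|
 a (a 0<|a 0<|a 0<|a 0<|a 0<|a 0<|a 0<|a 0<|a 0<|a 0<|a 0<|a 0<|a 0<|a 0<|a 8<|a 0<|a 0<|a 0<|a 0<|a 0<|a 0<|a 0<|a 0<|a 0<|b)<|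
 a (a 0<|a 0<|a 0<|a 0<|a 0<|a (-8)<|a 0<|a 0<|a 0<|a 0<|a 0<|a 0<|a 0<|a 0<|a 0<|a 0<|a 0<|a 0<|a 0<|a 0<|a 0<|a 0<|a 0<|a 0<|b)<|
 a (a 0<|a 0<|a 0<|a 8<|a 0<|a 0<|a 0<|a 0<|a 0<|a 0<|a 0<|a 0<|a 0<|a 0<|a 0<|a 0<|a 0<|a 0<|a 0<|a 0<|a 0<|a 0<|a 0<|a 0<|b)<|
 a (a 0<|a 0<|a 0<|a 0<|a 0<|a 0<|a 0<|a (-8)<|a 0<|a 0<|a 0<|a 0<|a 0<|a 0<|a 0<|a 0<|a 0<|a 0<|a 0<|a 0<|a 0<|a 0<|a 0<|a 0<|b)<|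
 a (a 0<|a 0<|a 0<|a 0<|a 0<|a 0<|a 0<|a 0<|a 0<|a 0<|a 0<|a 0<|a 0<|a 0<|a 0<|a 0<|a 0<|a 0<|a 8<|a 0<|a 0<|a 0<|a 0<|a 0<|b)<|
 a (a 0<|a 0<|a 0<|a 0<|a 0<|a 0<|a 0<|a 0<|a 0<|a (-8)<|a 0<|a 0<|a 0<|a 0<|a 0<|a 0<|a 0<|a 0<|a 0<|a 0<|a 0<|a 0<|a 0<|a 0<|b)<|
 a (a 0<|a 0<|a 0<|a 0<|a 0<|a 0<|a 0<|a 0<|a 0<|a 0<|a 0<|a 0<|a 0<|a 0<|a 0<|a 0<|a 0<|a (-8)<|a 0<|a 0<|a 0<|a 0<|a 0<|a 0<|b)<|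
 a (a 0<|a (-8)<|a 0<|a 0<|a 0<|a 0<|a 0<|a 0<|a 0<|a 0<|a 0<|a 0<|a 0<|a 0<|a 0<|a 0<|a 0<|a 0<|a 0<|a 0<|a 0<|a 0<|a 0<|a 0<|b)<|
 a (a 0<|a 0<|a 0<|a 0<|a 0<|a 0<|a 0<|a 0<|a 0<|a 0<|a 0<|a 0<|a (-8)<|a 0<|a 0<|a 0<|a 0<|a 0<|a 0<|a 0<|a 0<|a 0<|a 0<|a 0<|b)<|
 a (a 0<|a 0<|a 0<|a 0<|a 0<|a 0<|a 0<|a 0<|a 0<|a 0<|a 0<|a 0<|a 0<|a 0<|a 0<|a 0<|a 0<|a 0<|a 0<|a 0<|a 0<|a 8<|a 0<|a 0<|b)<|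
 a (a 0<|a 0<|a 0<|a 0<|a (-8)<|a 0<|a 0<|a 0<|a 0<|a 0<|a 0<|a 0<|a 0<|a 0<|a 0<|a 0<|a 0<|a 0<|a 0<|a 0<|a 0<|a 0<|a 0<|a 0<|b)<|
 a (a 0<|a 0<|a 0<|a 0<|a 0<|a 0<|a 0<|a 0<|a 0<|a 0<|a 0<|a 0<|a 0<|a 0<|a 0<|a 0<|a 0<|a 0<|a 0<|a 8<|a 0<|a 0<|a 0<|a 0<|b)<|
 a (a 0<|a 0<|a 0<|a 0<|a 0<|a 0<|a 0<|a 0<|a 0<|a 0<|a 0<|a 0<|a 0<|a 0<|a 0<|a 0<|a 0<|a 0<|a 0<|a 0<|a 8<|a 0<|a 0<|a 0<|b)<|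
 a (a 0<|a 0<|a 0<|a 0<|a 0<|a 0<|a 0<|a 0<|a 0<|a 0<|a 8<|a 0<|a 0<|a 0<|a 0<|a 0<|a 0<|a 0<|a 0<|a 0<|a 0<|a 0<|a 0<|a 0<|b)<|
 a (a 0<|a 0<|a 0<|a 0<|a 0<|a 0<|a 0<|a 0<|a (-8)<|a 0<|a 0<|a 0<|a 0<|a 0<|a 0<|a 0<|a 0<|a 0<|a 0<|a 0<|a 0<|a 0<|a 0<|a 0<|b)<|
 a (a 0<|a 0<|a 0<|a 0<|a 0<|a 0<|a 0<|a 0<|a 0<|a 0<|a 0<|a 0<|a 0<|a 0<|a 0<|a (-8)<|a 0<|a 0<|a 0<|a 0<|a 0<|a 0<|a 0<|a 0<|b)<|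
 a (a 0<|a 0<|a 0<|a 0<|a 0<|a 0<|a 0<|a 0<|a 0<|a 0<|a 0<|a 0<|a 0<|a 0<|a 0<|a 0<|a (-8)<|a 0<|a 0<|a 0<|a 0<|a 0<|a 0<|a 0<|b)<|
 a (a 0<|a 0<|a 0<|a 0<|a 0<|a 0<|a 0<|a 0<|a 0<|a 0<|a 0<|a 0<|a 0<|a (-8)<|a 0<|a 0<|a 0<|a 0<|a 0<|a 0<|a 0<|a 0<|a 0<|a 0<|b)<|
 a (a 0<|a 0<|a 0<|a 0<|a 0<|a 0<|a 0<|a 0<|a 0<|a 0<|a 0<|a 0<|a 0<|a 0<|a 0<|a 0<|a 0<|a 0<|a 0<|a 0<|a 0<|a 0<|a (-8)<|a 0<|b)<|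
 a (a 0<|a 0<|a 0<|a 0<|a 0<|a 0<|a 0<|a 0<|a 0<|a 0<|a 0<|a 0<|a 0<|a 0<|a 0<|a 0<|a 0<|a 0<|a 0<|a 0<|a 0<|a 0<|a 0<|a (-8)<|b)<|b))

theorem okN15 : Ok N15 (tr N15) := Cfsg.Agent.Co0Q.ok_of (by decide +kernel)

end Cfsg.Agent.H956.Co1P
end

-- part: H956/Co1P/Dat
section
/-!
The nine elements of `Co0` and the elements inducing `tor`, `w1`, `w2 2`, `w3` (helper956).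
-/

set_option autoImplicit false
set_option maxRecDepth 20000
set_option linter.style.longLine false

namespace Cfsg.Agent.H956.Co1P

open Cfsg Cfsg.Agent.LThreeCo1.Ev Cfsg.Agent.SporadicStructure.Co0Matrix Cfsg.Agent.CoOneType.CoEval
open Cfsg.Agent.LThreeCo1.AGrp Cfsg.Agent.H776.Co Cfsg.Agent.H776.Co.P
open Cfsg.Agent.H776.Co.Lin (tf tf_tf tf_zero)

/-- The matrices. -/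
def M : ℕ → List (List ℤ)
  | 1 => N1
  | 2 => N2
  | 3 => N3
  | 4 => N4
  | 5 => N5
  | 6 => N6
  | 7 => N7
  | 8 => N8
  | 9 => N9
  | 10 => N10
  | 11 => N11
  | 12 => N12
  | 13 => N13
  | 14 => N14
  | 15 => N15
  | _ => N1

theorem okM (i : ℕ) : Ok (M i) (tr (M i)) := by
  unfold M
  split
  · exact okN1
  · exact okN2
  · exact okN3
  · exact okN4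
  · exact okN5
  · exact okN6
  · exact okN7
  · exact okN8
  · exact okN9
  · exact okN10
  · exact okN11
  · exact okN12
  · exact okN13
  · exact okN14
  · exact okN15
  · exact okN1

/-- The elements. -/
noncomputable def e (i : ℕ) : Co0 := mk (okM i)

theorem rep (i : ℕ) : Rep (e i) (M i) := rep_mk (okM i)

/-- The basis of `A`. -/
noncomputable def aa (i : Fin 6) : Co0 := e (i.val + 1)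

/-- Words of elements of `A`. -/
def wv (v : V) : List ℕ :=
  List.replicate (v 0).val 1 ++ (List.replicate (v 1).val 2 ++ (List.replicate (v 2).val 3 ++
    (List.replicate (v 3).val 4 ++ (List.replicate (v 4).val 5 ++ List.replicate (v 5).val 6))))

/-- Words of elements of `P`. -/
def wp (p : P) : List ℕ :=
  wv (vec p) ++ (List.replicate p.c.val 9 ++ (List.replicate p.b.val 8 ++ List.replicate p.a.val 7))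

theorem wv_prod (v : V) : ((wv v).map e).prod = Ph aa v := by
  unfold wv Ph
  simp only [List.map_append, List.prod_append, List.map_replicate, List.prod_replicate]
  rfl

theorem wp_prod (p : P) : ((wp p).map e).prod = phi aa (e 7) (e 8) (e 9) p := by
  unfold wp phi tau
  rw [List.map_append, List.prod_append, wv_prod]
  simp only [List.map_append, List.prod_append, List.map_replicate, List.prod_replicate]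

theorem k_comm : ∀ i j : Fin 6, eqB M [i.val + 1, j.val + 1] [j.val + 1, i.val + 1] = true := by delta eqB; rw [Cfsg.Agent.Co0Q.foldZ_eq]; decide +kernel

theorem k_cube : ∀ i : Fin 9, eqB M [i.val + 1, i.val + 1, i.val + 1] [] = true := by delta eqB; rw [Cfsg.Agent.Co0Q.foldZ_eq]; decide +kernel

theorem k_xy : eqB M [7, 8] [9, 8, 7] = true := by delta eqB; rw [Cfsg.Agent.Co0Q.foldZ_eq]; decide +kernel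
theorem k_xz : eqB M [7, 9] [9, 7] = true := by delta eqB; rw [Cfsg.Agent.Co0Q.foldZ_eq]; decide +kernel
theorem k_yz : eqB M [8, 9] [9, 8] = true := by delta eqB; rw [Cfsg.Agent.Co0Q.foldZ_eq]; decide +kernel
theorem k_ne : neB' M [1] [] = true := by delta neB'; rw [Cfsg.Agent.Co0Q.foldZ_eq]; decide +kernel

theorem k_x : ∀ j : Fin 6, eqB M [7, j.val + 1] (wv (tf 1 0 0 (Pi.single j 1)) ++ [7]) = true := by delta eqB; rw [Cfsg.Agent.Co0Q.foldZ_eq]; decide +kernel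
theorem k_y : ∀ j : Fin 6, eqB M [8, j.val + 1] (wv (tf 0 1 0 (Pi.single j 1)) ++ [8]) = true := by delta eqB; rw [Cfsg.Agent.Co0Q.foldZ_eq]; decide +kernel
theorem k_z : ∀ j : Fin 6, eqB M [9, j.val + 1] (wv (tf 0 0 1 (Pi.single j 1)) ++ [9]) = true := by delta eqB; rw [Cfsg.Agent.Co0Q.foldZ_eq]; decide +kernel

theorem cube (i : Fin 9) : e (i.val + 1) ^ 3 = 1 := by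
  have h := eq_of_eqB rep (k_cube i)
  simpa [pow_succ, mul_assoc] using h

theorem conj_of {g : ℕ} {j : Fin 6} {v : V} (h : eqB M [g, j.val + 1] (wv v ++ [g]) = true) :
    e g * aa j * (e g)⁻¹ = Ph aa v := by
  have h1 := eq_of_eqB rep h
  rw [List.map_append, List.prod_append, wv_prod] at h1
  rw [mul_inv_eq_iff_eq_mul]
  simpa [aa] using h1

theorem dat : Dat aa (e 7) (e 8) (e 9) where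
  hyp :=
    { comm := fun i j => by
        have h := eq_of_eqB rep (k_comm i j)
        show aa i * aa j = aa j * aa i
        simpa [aa] using h
      cube := fun i => cube ⟨i.val, by omega⟩ }
  x3 := cube 6
  y3 := cube 7
  z3 := cube 8
  xy := by simpa using eq_of_eqB rep k_xy
  xz := by simpa using eq_of_eqB rep k_xz
  yz := by simpa using eq_of_eqB rep k_yz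
  cx j := conj_of (k_x j)
  cy j := conj_of (k_y j)
  cz j := conj_of (k_z j)
  ne := by
    have h := ne_of_neB' rep k_ne
    simpa [aa] using h

/-- The check of the action of `e g`. -/
def chk (f : P → P) (g : ℕ) (i : Fin 9) : Bool := eqB M (g :: wp (r i 1)) (wp (f (r i 1)) ++ [g])

theorem chk_spec {f : P → P} {g : ℕ} {i : Fin 9} (h : chk f g i = true) :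
    dat.hom (f (r i 1)) = e g * dat.hom (r i 1) * (e g)⁻¹ := by
  have h1 := eq_of_eqB rep h
  rw [List.map_append, List.prod_append, List.map_cons, List.prod_cons, wp_prod, wp_prod] at h1
  rw [dat.hom_apply, dat.hom_apply, eq_mul_inv_iff_mul_eq]
  simpa using h1.symm

theorem c_10 : ∀ i : Fin 9, chk (tor 1 1 (-1)) 10 i = true := by delta chk eqB; rw [Cfsg.Agent.Co0Q.foldZ_eq]; decide +kernel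
theorem c_11 : ∀ i : Fin 9, chk (tor (-1) 1 1) 11 i = true := by delta chk eqB; rw [Cfsg.Agent.Co0Q.foldZ_eq]; decide +kernel
theorem c_12 : ∀ i : Fin 9, chk (tor 1 (-1) 1) 12 i = true := by delta chk eqB; rw [Cfsg.Agent.Co0Q.foldZ_eq]; decide +kernel
theorem c_13 : ∀ i : Fin 9, i ≠ 0 → chk w1 13 i = true := by delta chk eqB; rw [Cfsg.Agent.Co0Q.foldZ_eq]; decide +kernel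
theorem c_14 : ∀ i : Fin 9, i ≠ 1 → chk (w2 2) 14 i = true := by delta chk eqB; rw [Cfsg.Agent.Co0Q.foldZ_eq]; decide +kernel
theorem c_15 : ∀ i : Fin 9, i ≠ 8 → chk w3 15 i = true := by delta chk eqB; rw [Cfsg.Agent.Co0Q.foldZ_eq]; decide +kernel

end Cfsg.Agent.H956.Co1P
end

private theorem dce_81b25f340e63 : _root_.True := by
  try have : _root_.True := by simp only [_root_.Cfsg.Agent.H956.Co1P.aa.eq_1]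
  exact _root_.True.intro
end
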